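import Cfsg.Agent.SUThree.Hessian.Reflection
import Cfsg.Agent.SUThree.Basic
import Cfsg.Agent.SLThree.Hessian.Main

/-!
# The normaliser of an extraspecial group of order 27 is maximal in `SU₃(p)`, `p ≡ 2 (mod 3)`, `p ≥ 11`
-/

set_option autoImplicit false
set_option linter.unusedSectionVars false

namespace CfsgLib.SUThree.Hessian

open Matrix Cfsg.Geo CfsgLib.MaxSub CfsgLib.MaxSub.UC CfsgLib.MaxSub.Circle
open CfsgLib.SLThree (NoFlag Flag)
open CfsgLib.SLThree.Hessian (Omega heis clock shift cent quat heis_le_normalizer quat_mem_normalizer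
  le_normalizer_of_isolated irreducible_heis clock_mem shift_mem)

variable {F : Type*} [Field F] [Fintype F] {p : ℕ} {σ : F ≃+* F}

/-- A transvection in a unitary group over a field of prime norm-one base gives a full root group. -/
theorem centre_of_flag (hb : IsBar p σ) (hf : IsUnitaryForm σ (Cfsg.hermForm 3 F p)) (hp : p.Prime)
    (h2 : (2 : F) ≠ 0) {M : Subgroup (GL (Fin 3) F)} (hMG : M ≤ Cfsg.GU 3 F p) {v a : Fin 3 → F} (h : Flag M v a) :
    ∃ w : Fin 3 → F, w ≠ 0 ∧ Cfsg.hermForm 3 F p w w = 0 ∧ CentreIn p σ M w := by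
  classical
  haveI := charP_of_bar hb hp
  have hs := sesqForm_of_unitary hf
  obtain ⟨h0, hv, ha, c, hc, hm⟩ := h
  have hmv : ∀ x, (tv (c • v) a : Matrix (Fin 3) (Fin 3) F) *ᵥ x = x + ((a ⬝ᵥ x) * c) • v := fun x => by
    rw [tv_mulVec (by rw [dotProduct_smul, h0, smul_zero]), smul_smul]
  have hiso := mem_GU_iff_forall.1 (hMG hm)
  obtain ⟨x₀, hx₀⟩ : ∃ x, a ⬝ᵥ x ≠ 0 := by
    by_contra hn
    push Not at hn
    exact ha (dotProduct_eq _ _ fun x => by rw [hn, zero_dotProduct])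
  have hvk : ∀ y, a ⬝ᵥ y = 0 → Cfsg.hermForm 3 F p v y = 0 := fun y hy => by
    have h := hiso x₀ y
    rw [hmv, hmv, hy, zero_mul, zero_smul, add_zero, hs.add_left, hs.smul_left] at h
    exact (mul_eq_zero.1 (show (a ⬝ᵥ x₀) * c * Cfsg.hermForm 3 F p v y = 0 by linear_combination h)).resolve_left
      (mul_ne_zero hx₀ hc)
  have hvv := hvk v h0
  obtain ⟨d, hd⟩ : ∃ d, d = Cfsg.hermForm 3 F p x₀ v / (a ⬝ᵥ x₀) := ⟨_, rfl⟩
  have hxv : ∀ x, Cfsg.hermForm 3 F p x v = (a ⬝ᵥ x) * d := fun x => by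
    have h : a ⬝ᵥ (x - ((a ⬝ᵥ x) / (a ⬝ᵥ x₀)) • x₀) = 0 := by
      rw [dotProduct_sub, dotProduct_smul, smul_eq_mul, div_mul_cancel₀ _ hx₀, sub_self]
    have h' := unitary_orth_symm hf (hvk _ h)
    rw [sub_eq_add_neg, ← neg_smul, hs.add_left, hs.smul_left] at h'
    rw [hd]
    linear_combination h'
  have hd0 : d ≠ 0 := fun e => by
    obtain ⟨x, hx⟩ := hs.exists_left_ne_zero hv
    exact hx (by rw [hxv, e, mul_zero])
  obtain ⟨c', hc'⟩ : ∃ c', c' = c / d := ⟨_, rfl⟩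
  have hc'0 : c' ≠ 0 := hc' ▸ div_ne_zero hc hd0
  have heq : tv (c • v) a = uTv p v c' := by
    refine Units.ext (Matrix.ext_iff_mulVec.mpr fun x => ?_)
    rw [hmv, uTv_mulVec hf hvv, hxv, hc']
    congr 2
    field_simp
  rw [heq] at hm
  have hσc : σ c' = -c' := by
    have hxd : Cfsg.hermForm 3 F p x₀ v ≠ 0 := by rw [hxv]; exact mul_ne_zero hx₀ hd0
    have h := mem_GU_iff_forall.1 (hMG hm) x₀ x₀
    rw [uTv_mulVec hf hvv, hs.add_left, hs.add_right, hs.add_right, hs.smul_left, hs.smul_left, hs.smul_right,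
      hs.smul_right, hvv, hf.herm v x₀] at h
    refine eq_neg_of_add_eq_zero_right ?_
    refine (mul_eq_zero.1 (show (c' + σ c') * (Cfsg.hermForm 3 F p x₀ v * σ (Cfsg.hermForm 3 F p x₀ v)) = 0 by
      simp only [map_mul, hf.involutive] at h ⊢
      linear_combination h)).resolve_right (mul_ne_zero hxd ((map_ne_zero σ).2 hxd))
  refine ⟨v, hv, hvv, fun s hs' => ?_⟩
  obtain ⟨n, hn⟩ := exists_mul_natCast hb hp (a := (1 : F)) (x := s / c') (map_one σ) one_ne_zero
    (by rw [map_div₀, hs', hσc, neg_div_neg_eq])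
  rw [mul_one] at hn
  have hpow : ∀ k : ℕ, uTv p v c' ^ k = uTv p v ((k : F) * c') := fun k => by
    induction k with
    | zero =>
      refine Units.ext (Matrix.ext_iff_mulVec.mpr fun x => ?_)
      rw [uTv_mulVec hf hvv, pow_zero, Units.val_one, one_mulVec]
      simp
    | succ k ih =>
      refine Units.ext (Matrix.ext_iff_mulVec.mpr fun x => ?_)
      rw [pow_succ, ih, Units.val_mul, ← mulVec_mulVec, uTv_mulVec hf hvv c', uTv_mulVec hf hvv, uTv_mulVec hf hvv,
        hs.add_left, hs.smul_left, hvv]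
      push_cast
      module
  have := M.pow_mem hm n
  rw [hpow, hn, div_mul_cancel₀ _ hc'0] at this
  exact this

/-- **Clause 7.** -/
theorem isMaximalIn_hessian {F : Type*} [Field F] [Fintype F] {q p : ℕ} (hF : Fintype.card F = q ^ 2)
    (hp : p.Prime) (hqp : q = p) (hp2 : p % 3 = 2) (h11 : 11 ≤ p) {R : Subgroup (GL (Fin 3) F)}
    (hsymp : IsSymplecticTypeGroup 3 R) (habs : ActsAbsolutelyIrreducibly (matrixSet R))
    (hsim : R ≤ similarityGroup (Cfsg.hermForm 3 F q)) (hR : Nat.card R = 27)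
    (hZ : Nat.card (Subgroup.center R) = 3) :
    IsMaximalIn (Cfsg.GU 3 F q ⊓ specialLinear (Fin 3) F)
      (subgroupNormalizer R ⊓ (Cfsg.GU 3 F q ⊓ specialLinear (Fin 3) F)) := by
  classical
  subst hqp
  obtain ⟨σ, h1, h2', h3'⟩ := CfsgLib.MaxSub.exists_conjEquiv hF
  have hb : IsBar q σ := ⟨h3', hF, h1, h2'⟩
  have hf : IsUnitaryForm σ (Cfsg.hermForm 3 F q) := isUnitaryForm_hermForm h1 h2' h3'
  haveI := charP_of_bar hb hp
  have h2 : (2 : F) ≠ 0 := fun e => by
    have := Nat.le_of_dvd (by norm_num) ((CharP.cast_eq_zero_iff F q 2).1 (by exact_mod_cast e))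
    omega
  obtain ⟨o⟩ := CfsgLib.SLThree.Hessian.exists_omega (F := F) (by rw [hF, Nat.pow_mod, hp2])
  obtain ⟨P, hPG, hP⟩ := exists_unitary_normal o hb hf hp2 hsymp habs hsim hR hZ
  obtain ⟨hclockG, hshiftG, hquatG⟩ := gens_mem o hb hp2
  set SU := Cfsg.GU 3 F q ⊓ specialLinear (Fin 3) F with hSU
  have hiff : ∀ g, g ∈ subgroupNormalizer R ↔ P⁻¹ * g * P ∈ subgroupNormalizer (heis o) := by
    intro g
    show g ∈ Subgroup.normalizer (R : Set (GL (Fin 3) F)) ↔
      P⁻¹ * g * P ∈ Subgroup.normalizer (heis o : Set (GL (Fin 3) F))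
    rw [Subgroup.mem_normalizer_iff, Subgroup.mem_normalizer_iff]
    constructor
    · intro h x
      have hx := h (P * x * P⁻¹)
      simp only [hP] at hx
      simpa only [mul_assoc, inv_mul_cancel_left, inv_mul_cancel, mul_one, _root_.mul_inv_rev, inv_inv] using hx
    · intro h x
      have hx := h (P⁻¹ * x * P)
      rw [hP, hP]
      simpa only [mul_assoc, mul_inv_cancel_left, inv_mul_cancel_left, inv_mul_cancel, mul_inv_cancel, mul_one,
        _root_.mul_inv_rev, inv_inv] using hx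
  haveI : (specialLinear (Fin 3) F).Normal := MonoidHom.normal_ker _
  have hconj : ∀ x, x ∈ SU → P⁻¹ * x * P ∈ SU := fun x hx => by
    refine ⟨(Cfsg.GU 3 F q).mul_mem ((Cfsg.GU 3 F q).mul_mem ((Cfsg.GU 3 F q).inv_mem hPG) hx.1) hPG, ?_⟩
    have h := Subgroup.Normal.conj_mem (inferInstance : (specialLinear (Fin 3) F).Normal) _ hx.2 P⁻¹
    rwa [inv_inv] at h
  have hconj' : ∀ x, x ∈ SU → P * x * P⁻¹ ∈ SU := fun x hx =>
    ⟨(Cfsg.GU 3 F q).mul_mem ((Cfsg.GU 3 F q).mul_mem hPG hx.1) ((Cfsg.GU 3 F q).inv_mem hPG),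
      Subgroup.Normal.conj_mem inferInstance _ hx.2 P⟩
  refine isMaximalIn_of inf_le_right ?_ fun M hHM hMK g hg hg' => by_contra fun hne => hne ?_
  · obtain ⟨t, ht, htn⟩ := exists_not_normalises o hb hp2 h11
    refine ⟨P * t * P⁻¹, hconj' t ht, fun h => htn ?_⟩
    have := (hiff _).1 h.1
    rwa [show P⁻¹ * (P * t * P⁻¹) * P = t by group] at this
  set φ := (MulAut.conj P).toMonoidHom with hφ
  have hφa : ∀ y, φ y = P * y * P⁻¹ := fun y => rfl
  set M₁ := M.comap φ with hM₁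
  have hsu : ∀ y ∈ M₁, y ∈ SU := fun y hy => by
    have := hconj _ (hMK hy)
    rwa [hφa, show P⁻¹ * (P * y * P⁻¹) * P = y by group] at this
  have hN : ∀ y ∈ subgroupNormalizer (heis o), y ∈ SU → y ∈ M₁ := fun y hy hy' =>
    hHM ⟨(hiff _).2 (by rw [hφa, show P⁻¹ * (P * y * P⁻¹) * P = y by group]; exact hy), hconj' y hy'⟩
  have hheis : heis o ≤ M₁ := by
    refine (Subgroup.closure_le _).2 ?_
    rintro _ (rfl | rfl)
    · exact hN _ (heis_le_normalizer o (clock_mem o)) hclockG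
    · exact hN _ (heis_le_normalizer o (shift_mem o)) hshiftG
  have hquat : ∀ k, quat o k ∈ M₁ := fun k => hN _ (quat_mem_normalizer o k) (hquatG k)
  have hg1 : P⁻¹ * g * P ∈ M₁ := by
    rw [hM₁, Subgroup.mem_comap, hφa, show P * (P⁻¹ * g * P) * P⁻¹ = g by group]; exact hg
  have hg1' : P⁻¹ * g * P ∉ subgroupNormalizer (heis o) := fun h => hg' ⟨(hiff g).2 h, hMK hg⟩
  by_cases hno : NoFlag M₁
  swap
  · simp only [NoFlag, not_forall, not_not] at hno
    obtain ⟨v, a, hfl⟩ := hno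
    obtain ⟨w, hw0, hww, hcw⟩ := centre_of_flag hb hf hp h2 (fun y hy => (hsu y hy).1) hfl
    have hall := su_le_of_centre hf hb (by omega) (fun y hy => (hsu y hy).1) ((irreducible_heis o).mono hheis) hww hw0 hcw
    intro x hx
    have := hall (hconj x hx)
    rwa [hM₁, Subgroup.mem_comap, hφa, show P * (P⁻¹ * x * P) * P⁻¹ = x by group] at this
  exfalso
  have hfour : CfsgLib.SLThree.Hessian.four o ∈ M₁ := by simpa [quat] using hquat 0
  refine hg1' (le_normalizer_of_isolated o h2 (hheis (clock_mem o)) (hheis (shift_mem o)) hfour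
    (fun r hr hr2 hc => ?_) hg1)
  by_contra hn
  push Not at hn
  -- the order
  have hsc : ∀ h ∈ SU, (∃ r : F, (h : Matrix (Fin 3) (Fin 3) F) = r • 1) → h ∈ M := by
    intro h hh ⟨r, hr⟩
    refine hHM ⟨Subgroup.mem_normalizer_iff.2 fun x => ?_, hh⟩
    have e : h * x * h⁻¹ = x := by
      rw [mul_inv_eq_iff_eq_mul]
      exact Units.ext (by rw [Units.val_mul, Units.val_mul, hr]; simp)
    rw [e]
  obtain ⟨c, hc', hMc⟩ := card_le_of_scalars hF (by omega) (by omega) hMK hsc hne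
  have hcard : Nat.card M₁ = Nat.card M := by
    rw [Nat.card_congr (M₁.equivMapOfInjective φ (MulAut.conj P).injective).toEquiv, hM₁,
      Subgroup.map_comap_eq_self (fun x _ => ⟨(MulAut.conj P).symm x, (MulAut.conj P).apply_symm_apply x⟩)]
  have hsmall : Nat.card M₁ ≤ q ^ 3 * (q ^ 2 - 1) := by
    have : Nat.card M * (q ^ 3 + 1) ≤ q ^ 3 * (q ^ 2 - 1) * (q ^ 3 + 1) := hMc ▸ Nat.mul_le_mul_left _ hc'
    exact hcard ▸ Nat.le_of_mul_le_mul_right this (by positivity)
  exact false_of_commuting o hb hf hp h11 hp2 (fun y hy => hsu y hy) hno hheis hquat hsmall hr hr2 hn.1 hn.2 hc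

end CfsgLib.SUThree.Hessian
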