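import Cfsg.Agent.SLThree.Hessian.Normal
import Cfsg.Agent.SLThree.Hessian.NormalSub
import Cfsg.Agent.SUThree.Decomp.Field
import Cfsg.Agent.MaxSub.HermStandard
import Cfsg.Agent.MaxSub.UnitaryCentres

/-!
# The Heisenberg group of order 27 in unitary normal form
-/

set_option autoImplicit false
set_option linter.unusedSectionVars false

namespace CfsgLib.SUThree.Hessian

open Matrix Cfsg.Geo CfsgLib.MaxSub CfsgLib.MaxSub.UC CfsgLib.MaxSub.Circle
open CfsgLib.SLThree.Hessian (Omega heis clock shift four tw quat cent clock_mem shift_mem)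

variable {F : Type*} [Field F] [Fintype F] {p : ℕ} {σ : F ≃+* F} (o : Omega F) (hb : IsBar p σ)
  (hf : IsUnitaryForm σ (Cfsg.hermForm 3 F p)) (hp2 : p % 3 = 2)

include hb hp2

theorem bar_w : σ o.w = o.w ^ 2 := by
  rw [hb.eq_pow, show p = 3 * (p / 3) + 2 by omega, pow_add, pow_mul, o.cube, one_pow, one_mul]

theorem fixed_cube_root {c : F} (hc : σ c = c) (h3 : c ^ 3 = 1) : c = 1 := by
  have hc0 : c ≠ 0 := fun e => by rw [e] at h3; simp at h3
  have h : c ^ 2 = c := by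
    conv_rhs => rw [← hc, hb.eq_pow, show p = 3 * (p / 3) + 2 by omega, pow_add, pow_mul, h3, one_pow, one_mul]
  exact mul_right_cancel₀ hc0 (by rw [one_mul, ← pow_two, h])

omit hb hp2 in
theorem herm_apply (hb : IsBar p σ) (x y : Fin 3 → F) :
    Cfsg.hermForm 3 F p x y = x 0 * σ (y 0) + x 1 * σ (y 1) + x 2 * σ (y 2) := by
  simp [Cfsg.hermForm, Fin.sum_univ_three, hb.eq_pow]

include hf in
/-- **The unitary normal form.** -/
theorem exists_unitary_normal {R : Subgroup (GL (Fin 3) F)} (hsymp : IsSymplecticTypeGroup 3 R)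
    (habs : ActsAbsolutelyIrreducibly (matrixSet R)) (hsim : R ≤ similarityGroup (Cfsg.hermForm 3 F p))
    (hcard : Nat.card R = 27) (hZ : Nat.card (Subgroup.center R) = 3) :
    ∃ P ∈ Cfsg.GU 3 F p, ∀ g, g ∈ R ↔ P⁻¹ * g * P ∈ heis o := by
  classical
  have hs := sesqForm_of_unitary hf
  obtain ⟨P, hP⟩ := CfsgLib.SLThree.Hessian.exists_normal_form' o hsymp habs hZ (m := 1) le_rfl
    (by rw [hcard]; norm_num)
  let η' : (Fin 3 → F) → (Fin 3 → F) → F := fun x y =>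
    Cfsg.hermForm 3 F p ((P : Matrix (Fin 3) (Fin 3) F) *ᵥ x) ((P : Matrix (Fin 3) (Fin 3) F) *ᵥ y)
  obtain ⟨v, -, hv⟩ := exists_noniso hf (⊤ : Submodule F (Fin 3 → F)) (by rw [finrank_top, Module.finrank_fin_fun]; norm_num)
  have hiso : ∀ g ∈ heis o, g ^ 3 = 1 → ∀ x y,
      η' ((g : Matrix (Fin 3) (Fin 3) F) *ᵥ x) ((g : Matrix (Fin 3) (Fin 3) F) *ᵥ y) = η' x y := by
    intro g hg hg3
    obtain ⟨c, hc⟩ := hsim ((hP (P * g * P⁻¹)).2 (by rwa [show P⁻¹ * (P * g * P⁻¹) * P = g by group]))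
    have hc' : ∀ x y, η' ((g : Matrix (Fin 3) (Fin 3) F) *ᵥ x) ((g : Matrix (Fin 3) (Fin 3) F) *ᵥ y) =
        (c : F) * η' x y := fun x y => by
      have := hc ((P : Matrix (Fin 3) (Fin 3) F) *ᵥ x) ((P : Matrix (Fin 3) (Fin 3) F) *ᵥ y)
      simp only [Units.val_mul, mulVec_mulVec, mul_assoc, Units.inv_mul, mul_one] at this
      simpa only [η', mulVec_mulVec] using this
    obtain ⟨x, rfl⟩ : ∃ x, v = (P : Matrix (Fin 3) (Fin 3) F) *ᵥ x :=
      ⟨((P⁻¹ : GL (Fin 3) F) : Matrix (Fin 3) (Fin 3) F) *ᵥ v, by rw [mulVec_mulVec, Units.mul_inv, one_mulVec]⟩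
    have hfix : σ (c : F) = c := by
      have h := hc' x x
      have hd : ∀ u, σ (η' u u) = η' u u := fun u => (hf.herm _ _).symm
      have h' := congrArg σ h
      rw [map_mul, hd, hd, h] at h'
      exact (mul_right_cancel₀ hv h').symm
    have h3 : (c : F) ^ 3 = 1 := by
      have e : (g : Matrix (Fin 3) (Fin 3) F) * ((g : Matrix (Fin 3) (Fin 3) F) * (g : Matrix (Fin 3) (Fin 3) F)) = 1 := by
        rw [← Units.val_mul, ← Units.val_mul, ← pow_two, ← pow_succ', hg3, Units.val_one]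
      have e' : (g : Matrix (Fin 3) (Fin 3) F) *ᵥ ((g : Matrix (Fin 3) (Fin 3) F) *ᵥ
          ((g : Matrix (Fin 3) (Fin 3) F) *ᵥ x)) = x := by rw [mulVec_mulVec, mulVec_mulVec, mul_assoc, e, one_mulVec]
      have h1 := hc' ((g : Matrix (Fin 3) (Fin 3) F) *ᵥ ((g : Matrix (Fin 3) (Fin 3) F) *ᵥ x))
        ((g : Matrix (Fin 3) (Fin 3) F) *ᵥ ((g : Matrix (Fin 3) (Fin 3) F) *ᵥ x))
      have h2 := hc' ((g : Matrix (Fin 3) (Fin 3) F) *ᵥ x) ((g : Matrix (Fin 3) (Fin 3) F) *ᵥ x)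
      have h3 := hc' x x
      rw [e', h2, h3] at h1
      exact mul_right_cancel₀ hv (by rw [one_mul]; linear_combination -h1)
    rw [fixed_cube_root hb hp2 hfix h3] at hc'
    simpa using hc'
  obtain ⟨G, hG⟩ : ∃ G : Fin 3 → Fin 3 → F, G = fun i j => η' (Pi.single i 1) (Pi.single j 1) := ⟨_, rfl⟩
  have hexp : ∀ x y, η' x y = ∑ i, ∑ j, x i * σ (y j) * G i j := fun x y => by
    have e : ∀ w : Fin 3 → F, (P : Matrix (Fin 3) (Fin 3) F) *ᵥ w =
        ∑ i, w i • ((P : Matrix (Fin 3) (Fin 3) F) *ᵥ Pi.single i 1) := fun w => by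
      simp only [← mulVec_smul, ← mulVec_sum, ← pi_eq_sum_univ']
    simp only [η', hG]
    rw [e x, e y]
    simp [Fin.sum_univ_three, hs.add_left, hs.add_right, hs.smul_left, hs.smul_right]
    ring
  have hclock := hiso _ (clock_mem o) (CfsgLib.SLThree.Hessian.clock_pow_three o)
  have hshift := hiso _ (shift_mem o) (CfsgLib.SLThree.Hessian.shift_pow_three o)
  have hw := bar_w o hb hp2
  have hC : ∀ i : Fin 3, (clock o : Matrix (Fin 3) (Fin 3) F) *ᵥ Pi.single i 1 =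
      o.w ^ (i : ℕ) • (Pi.single i 1 : Fin 3 → F) := fun i => by
    rw [mulVec_single_one]
    funext j
    fin_cases i <;> fin_cases j <;> simp [clock]
  have hS : ∀ i : Fin 3, (shift F : Matrix (Fin 3) (Fin 3) F) *ᵥ Pi.single i 1 = (Pi.single (i + 1) 1 : Fin 3 → F) :=
    fun i => by
      rw [mulVec_single_one]
      funext j
      fin_cases i <;> fin_cases j <;> simp [shift]
  have hlin : ∀ (a c : F) (x y : Fin 3 → F), η' (a • x) (c • y) = a * σ c * η' x y := fun a c x y => by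
    simp only [η', mulVec_smul, hs.smul_left, hs.smul_right]; ring
  have hsh : ∀ i j, G (i + 1) (j + 1) = G i j := fun i j => by
    simp only [hG]; rw [← hS, ← hS, hshift]
  have hcl : ∀ i j : Fin 3, o.w ^ (i : ℕ) * σ (o.w ^ (j : ℕ)) * G i j = G i j := fun i j => by
    simp only [hG]; rw [← hlin, ← hC, ← hC, hclock]
  have hne1 : o.w ^ 2 ≠ 1 := fun e => o.ne_one (by linear_combination o.cube - o.w * e)
  have h01 : G 0 1 = 0 := by
    have := hcl 0 1
    simp [hw] at this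
    exact (mul_eq_zero.1 (show (o.w ^ 2 - 1) * G 0 1 = 0 by linear_combination this)).resolve_left (sub_ne_zero.2 hne1)
  have h02 : G 0 2 = 0 := by
    have := hcl 0 2
    simp [hw] at this
    exact (mul_eq_zero.1 (show (o.w - 1) * G 0 2 = 0 by linear_combination this - o.w * G 0 2 * o.cube)).resolve_left (sub_ne_zero.2 o.ne_one)
  have h10 : G 1 0 = 0 := by
    have := hcl 1 0
    simp at this
    exact (mul_eq_zero.1 (show (o.w - 1) * G 1 0 = 0 by linear_combination this)).resolve_left (sub_ne_zero.2 o.ne_one)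
  have h20 : G 2 0 = 0 := by
    have := hcl 2 0
    simp at this
    exact (mul_eq_zero.1 (show (o.w ^ 2 - 1) * G 2 0 = 0 by linear_combination this)).resolve_left (sub_ne_zero.2 hne1)
  have h12 : G 1 2 = 0 := by rw [show (1 : Fin 3) = 0 + 1 from rfl, show (2 : Fin 3) = 1 + 1 from rfl, hsh]; exact h01
  have h21 : G 2 1 = 0 := by rw [show (1 : Fin 3) = 0 + 1 from rfl, show (2 : Fin 3) = 1 + 1 from rfl, hsh]; exact h10
  have h11 : G 1 1 = G 0 0 := hsh 0 0
  have h22 : G 2 2 = G 0 0 := by rw [show (2 : Fin 3) = 1 + 1 from rfl, hsh, h11]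
  have hform : ∀ x y, η' x y = G 0 0 * Cfsg.hermForm 3 F p x y := fun x y => by
    rw [hexp, herm_apply hb]
    simp [Fin.sum_univ_three, h01, h02, h10, h12, h20, h21, h11, h22]
    ring
  have hl0 : G 0 0 ≠ 0 := fun e => hv (by
    obtain ⟨x, rfl⟩ : ∃ x, v = (P : Matrix (Fin 3) (Fin 3) F) *ᵥ x :=
      ⟨((P⁻¹ : GL (Fin 3) F) : Matrix (Fin 3) (Fin 3) F) *ᵥ v, by rw [mulVec_mulVec, Units.mul_inv, one_mulVec]⟩
    show η' x x = 0
    rw [hform, e, zero_mul])
  have hlf : σ (G 0 0) = G 0 0 := by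
    simp only [hG, η']; exact (hf.herm _ _).symm
  obtain ⟨r, hr⟩ := exists_norm_eq hb hlf
  have hr0 : r ≠ 0 := fun e => hl0 (by rw [← hr, e, zero_mul])
  obtain ⟨S, hS'⟩ : ∃ S : GL (Fin 3) F, (S : Matrix (Fin 3) (Fin 3) F) = r⁻¹ • 1 :=
    ⟨GeneralLinearGroup.mkOfDetNeZero (r⁻¹ • 1) (by simp [hr0]), rfl⟩
  have hSc : ∀ g : GL (Fin 3) F, S * g = g * S := fun g =>
    Units.ext (by rw [Units.val_mul, Units.val_mul, hS']; simp)
  refine ⟨P * S, mem_GU_iff_forall.2 fun x y => ?_, fun g => ?_⟩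
  · rw [Units.val_mul, ← mulVec_mulVec, ← mulVec_mulVec, hS', smul_mulVec, one_mulVec, smul_mulVec, one_mulVec]
    show η' _ _ = _
    rw [hlin, hform, map_inv₀, ← hr]
    have : σ r ≠ 0 := (map_ne_zero σ).2 hr0
    field_simp
  · rw [hP, _root_.mul_inv_rev, show S⁻¹ * P⁻¹ * g * (P * S) = S⁻¹ * ((P⁻¹ * g * P) * S) by group, ← hSc,
      inv_mul_cancel_left]

/-- Monomial and Fourier generators are special unitary. -/
theorem gens_mem : clock o ∈ Cfsg.GU 3 F p ⊓ specialLinear (Fin 3) F ∧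
    shift F ∈ Cfsg.GU 3 F p ⊓ specialLinear (Fin 3) F ∧
    ∀ k, quat o k ∈ Cfsg.GU 3 F p ⊓ specialLinear (Fin 3) F := by
  have hw := bar_w o hb hp2
  have hcube := o.cube
  have hsum := o.sum
  have hs := o.s_ne
  have hdet : ∀ g : GL (Fin 3) F, (g : Matrix (Fin 3) (Fin 3) F).det = 1 → g ∈ specialLinear (Fin 3) F := fun g h => by
    rw [specialLinear, MonoidHom.mem_ker, Units.ext_iff, Matrix.GeneralLinearGroup.val_det_apply, Units.val_one, h]
  have htw : tw o ∈ Cfsg.GU 3 F p := mem_GU_iff_forall.2 fun x y => by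
    simp [herm_apply hb, tw, mulVec, dotProduct, Fin.sum_univ_three, hw]
    grind
  have hfour : four o ∈ Cfsg.GU 3 F p := mem_GU_iff_forall.2 fun x y => by
    have hσs : σ o.s = -o.s := by simp [Omega.s, hw]; grind
    simp [herm_apply hb, four, mulVec, dotProduct, Fin.sum_univ_three, hw, map_inv₀, hσs]
    field_simp
    have := o.s_sq
    grind
  refine ⟨⟨mem_GU_iff_forall.2 fun x y => ?_, hdet _ (CfsgLib.SLThree.Hessian.det_clock o)⟩,
    ⟨mem_GU_iff_forall.2 fun x y => ?_, hdet _ (CfsgLib.SLThree.Hessian.det_shift)⟩,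
    fun k => ⟨?_, hdet _ (CfsgLib.SLThree.Hessian.det_quat o k)⟩⟩
  · simp [herm_apply hb, clock, mulVec, dotProduct, Fin.sum_univ_three, hw]
    grind
  · simp [herm_apply hb, shift, mulVec, dotProduct, Fin.sum_univ_three]
    ring
  · exact (Cfsg.GU 3 F p).mul_mem ((Cfsg.GU 3 F p).mul_mem ((Cfsg.GU 3 F p).pow_mem htw k) hfour)
      ((Cfsg.GU 3 F p).inv_mem ((Cfsg.GU 3 F p).pow_mem htw k))

/-- A diagonal element of large order does not normalise the group. -/
theorem exists_not_normalises (h11 : 11 ≤ p) :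
    ∃ t ∈ Cfsg.GU 3 F p ⊓ specialLinear (Fin 3) F, t ∉ subgroupNormalizer (heis o) := by
  obtain ⟨ζ, hζ, hord⟩ := Circle.exists_order hb
  have hζ0 := Circle.ne_zero_of_mem hb hζ
  have h1 : ζ * σ ζ = 1 := (mem_normOne hb).1 hζ
  let t : GL (Fin 3) F := GeneralLinearGroup.mkOfDetNeZero !![ζ, 0, 0; 0, ζ⁻¹, 0; 0, 0, 1] (by simp [det_fin_three, hζ0])
  have tv : (t : Matrix (Fin 3) (Fin 3) F) = !![ζ, 0, 0; 0, ζ⁻¹, 0; 0, 0, 1] := rfl
  refine ⟨t, ⟨mem_GU_iff_forall.2 fun x y => ?_, ?_⟩, fun hn => ?_⟩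
  · simp [herm_apply hb, tv, mulVec, dotProduct, Fin.sum_univ_three, map_inv₀]
    have hz0 : σ ζ ≠ 0 := (map_ne_zero σ).2 hζ0
    field_simp
    first | linear_combination (x 0 * σ (y 0)) * (ζ * σ ζ) * h1 + (-(x 1 * σ (y 1))) * h1 | linear_combination (x 0 * σ (y 0) - x 1 * σ (y 1)) * h1 | linear_combination (x 0 * σ (y 0) * (ζ * σ ζ) + x 1 * σ (y 1)) * h1
  · refine MonoidHom.mem_ker.2 (Units.ext ?_)
    rw [Matrix.GeneralLinearGroup.val_det_apply, Units.val_one, tv, det_fin_three]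
    simp [hζ0]
  · have hx := (Subgroup.mem_normalizer_iff.1 hn (shift F)).1 (shift_mem o)
    obtain ⟨c, i, j, hX⟩ := CfsgLib.SLThree.Hessian.mo_of_eig o (CfsgLib.SLThree.Hessian.eig_of_mem o hx)
      (t * shift F * t⁻¹).ne_zero
    have e : (t * shift F * t⁻¹ : GL (Fin 3) F).1 = !![0, 0, ζ; ζ⁻¹ * ζ⁻¹, 0, 0; 0, ζ, 0] := by
      have hi : ((t⁻¹ : GL (Fin 3) F) : Matrix (Fin 3) (Fin 3) F) = !![ζ⁻¹, 0, 0; 0, ζ, 0; 0, 0, 1] := by
        refine Units.inv_eq_of_mul_eq_one_right ?_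
        rw [tv]; ext a b; fin_cases a <;> fin_cases b <;> simp [mul_apply, Fin.sum_univ_three, hζ0]
      rw [Units.val_mul, Units.val_mul, tv, hi]
      ext a b; fin_cases a <;> fin_cases b <;> simp [shift, mul_apply, Fin.sum_univ_three]
    rw [CfsgLib.SLThree.Hessian.mo_val] at hX
    have c10 := congrFun (congrFun (e.symm.trans hX) 1) 0
    have c21 := congrFun (congrFun (e.symm.trans hX) 2) 1
    have c02 := congrFun (congrFun (e.symm.trans hX) 0) 2
    fin_cases j <;> simp [hζ0] at c10 c21 c02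
    rw [mul_comm (i : ℕ) 2, pow_mul] at c21
    refine hord 9 (by omega) (by norm_num) ?_
    rw [← c02] at c10 c21
    obtain ⟨W, hW⟩ : ∃ W, W = o.w ^ (i : ℕ) := ⟨_, rfl⟩
    have hW3 : W ^ 3 = 1 := by rw [hW, ← pow_mul, mul_comm, pow_mul, o.cube, one_pow]
    rw [← hW] at c10
    have e3 : ζ ^ 3 * W = 1 := by
      have h := congrArg (fun z => z * ζ * ζ) c10
      field_simp at h
      linear_combination -h
    have := congrArg (fun z => z ^ 3) e3
    simp only [mul_pow, one_pow, hW3, mul_one] at this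
    rw [← this]; ring

end CfsgLib.SUThree.Hessian
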