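import Cfsg.Agent.SUThree.Hessian.OmegaPoint
import Mathlib.GroupTheory.PGroup

/-!
# Two rational unipotents at distinct points give `Ω₃(p)`
-/

set_option autoImplicit false
set_option linter.unusedSectionVars false

namespace CfsgLib.SUThree.Hessian

open Matrix CfsgLib.MaxSub CfsgLib.MaxSub.Circle CfsgLib.SUThree.Rational

variable {F : Type*} [Field F] [Fintype F] {p : ℕ} {σ : F ≃+* F} (hb : IsBar p σ) (h2 : (2 : F) ≠ 0)

theorem charP_of_bar (hb : IsBar p σ) (hp : p.Prime) : CharP F p := by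
  obtain ⟨c, hc⟩ := CharP.exists F
  obtain ⟨n, hcp, hn⟩ := FiniteField.card F c
  rw [hb.card] at hn
  rwa [(Nat.prime_dvd_prime_iff_eq hp hcp).1 (hp.dvd_of_dvd_pow (hn ▸ dvd_pow_self p two_ne_zero))]

include hb in
theorem uR_pow {a : F} (h2 : (2 : F) ≠ 0) (ha : σ a = a) (n : ℕ) : uR σ a ^ n = uR σ ((n : F) * a) := by
  induction n with
  | zero => rw [pow_zero, uR, ← uT_zero (σ := σ)]; simp
  | succ n ih =>
    rw [pow_succ, ih, uR, uR, uR, uT_mul]
    congr 1 <;> simp [map_natCast, ha] <;> field_simp <;> ring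

include hb in
/-- A fixed element is a natural multiple of a non-zero fixed one. -/
theorem exists_mul_natCast (hp : p.Prime) {a x : F} (ha : σ a = a) (ha0 : a ≠ 0) (hx : σ x = x) :
    ∃ n : ℕ, (n : F) * a = x := by
  classical
  haveI := charP_of_bar hb hp
  let f : Fin p → fixed σ := fun n => ⟨(n : ℕ) * a, by show σ _ = _; rw [map_mul, map_natCast, ha]⟩
  have hf : Function.Bijective f := by
    rw [Nat.bijective_iff_injective_and_card, Nat.card_fin, card_fixedSub hb]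
    refine ⟨fun i j e => ?_, rfl⟩
    have := mul_right_cancel₀ ha0 (congrArg Subtype.val e)
    exact Fin.ext (Nat.ModEq.eq_of_lt_of_lt ((CharP.natCast_eq_natCast F p).1 this) i.2 j.2)
  obtain ⟨n, hn⟩ := hf.2 ⟨x, hx⟩
  exact ⟨n, congrArg Subtype.val hn⟩

variable {M : Subgroup (GL (Fin 3) F)}

include hb h2 in
theorem unip_all (hp : p.Prime) {a : F} (ha : σ a = a) (ha0 : a ≠ 0) (h : uR σ a ∈ M) {x : F} (hx : σ x = x) :
    uR σ x ∈ M := by
  obtain ⟨n, rfl⟩ := exists_mul_natCast hb hp ha ha0 hx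
  rw [← uR_pow hb h2 ha]
  exact M.pow_mem h n

include hb h2 in
theorem lower_all (hp : p.Prime) {a : F} (ha : σ a = a) (ha0 : a ≠ 0) (h : flip3 * uR σ a * flip3 ∈ M) {x : F}
    (hx : σ x = x) : flip3 * uR σ x * flip3 ∈ M :=
  Subgroup.mem_comap (f := (MulAut.conj (flip3 : GL (Fin 3) F)).toMonoidHom).1 (by
    refine unip_all hb h2 hp (M := M.comap (MulAut.conj (flip3 : GL (Fin 3) F)).toMonoidHom) ha ha0 ?_ hx
    show flip3 * uR σ a * flip3⁻¹ ∈ M
    rwa [inv_eq_of_mul_eq_one_right flip3_mul_self]) |> fun h => by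
    simpa [inv_eq_of_mul_eq_one_right flip3_mul_self] using h

include hb h2 in
/-- The Weyl element of a parameter. -/
theorem weyl_eq {a : Fˣ} (ha : σ (a : F) = a) {l : Fˣ} (hl : (l : F) = -2 / ((a : F) * a)) :
    uR σ (a : F) * (flip3 * uR σ (-2 / (a : F)) * flip3) * uR σ (a : F) = flip3 * dR l := by
  refine Units.ext ?_
  simp only [Units.val_mul, uR, uT_val, dR_val, flip3_val, hl]
  ext i j
  fin_cases i <;> fin_cases j <;>
    simp [mul_apply, Fin.sum_univ_three, map_div₀, map_neg, map_ofNat, ha] <;> field_simp <;> ring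

include hb h2 in
theorem exists_omega (hp : p.Prime) (hMJ : M ≤ jGroup σ) {u : GL (Fin 3) F} (hu : u ∈ M)
    (huR : u ∈ realGroup σ) (hord : orderOf u = p) (h3 : 3 < p)
    (hmove : ∀ r ∈ realGroup σ, ∃ g ∈ M, g ∈ realGroup σ ∧ r⁻¹ * g * r ∉ pStab F) :
    ∃ r ∈ realGroup σ,
      (∀ δ : F, σ δ = δ → r * uR σ δ * r⁻¹ ∈ M) ∧
      (∀ l : Fˣ, σ (l : F) = l → r * dR (l * l) * r⁻¹ ∈ M) ∧
      (∃ l : Fˣ, σ (l : F) = l ∧ r * (flip3 * dR l) * r⁻¹ ∈ M) := by
  classical
  haveI : Fact p.Prime := ⟨hp⟩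
  haveI := charP_of_bar hb hp
  set H := realGroup σ with hH
  -- a fixed rational point
  obtain ⟨r₀, hr₀, hr₀u⟩ : ∃ r ∈ H, r⁻¹ * u * r ∈ pStab F := by
    let U : Subgroup ↥H := Subgroup.zpowers ⟨u, huR⟩
    have hU : IsPGroup p U := IsPGroup.of_card (n := 1) (by
      rw [Nat.card_zpowers, ← Subgroup.orderOf_coe, pow_one]; exact hord)
    have hcard : Nat.card (↥H ⧸ (pStab F).subgroupOf H) = p + 1 := relIndex_pStab hb h2
    obtain ⟨x, hx⟩ := hU.nonempty_fixed_point_of_prime_not_dvd_card (↥H ⧸ (pStab F).subgroupOf H) (by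
      rw [hcard]; intro h
      exact hp.not_dvd_one ((Nat.dvd_add_right (dvd_refl p)).1 h))
    induction x using QuotientGroup.induction_on with
    | H r =>
      refine ⟨r, r.2, ?_⟩
      have h : (QuotientGroup.mk ((⟨u, huR⟩ : ↥H) * r) : ↥H ⧸ (pStab F).subgroupOf H) = QuotientGroup.mk r :=
        hx ⟨⟨u, huR⟩, Subgroup.mem_zpowers _⟩
      rw [eq_comm, QuotientGroup.eq, Subgroup.mem_subgroupOf] at h
      simpa [mul_assoc] using h
  -- it is a rational root element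
  set u' := r₀⁻¹ * u * r₀ with hu'
  have hu'R : u' ∈ H := H.mul_mem (H.mul_mem (H.inv_mem hr₀) huR) hr₀
  have hu'p : u' ^ p = 1 := by
    have h := conj_pow (i := p) (a := r₀⁻¹) (b := u)
    rw [inv_inv, ← hord, pow_orderOf_eq_one, mul_one, inv_mul_cancel, hord] at h
    exact h
  have hT : NoRoot σ H := fun c hc => by
    obtain ⟨hJ, z, A, hA, hz⟩ := hc
    have r22 := entry_rel hJ 2 2
    simp [uT_val] at r22
    have e00 := congrFun (congrFun hz 0) 0
    have e02 := congrFun (congrFun hz 0) 2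
    simp [uT_val] at e00 e02
    have hz' : z = (A 0 0)⁻¹ := eq_inv_of_mul_eq_one_left e00.symm
    have : σ c = c := by rw [e02, map_mul, hA, hz', map_inv₀, hA]
    rw [this] at r22
    exact (mul_eq_zero.1 (show (2 : F) * c = 0 by linear_combination r22)).resolve_left h2
  obtain ⟨z, δ, l, hδ, hl, hz, e⟩ := Rational.point_form hb h2 (M := H) le_rfl hT (fun x hx => hx.1) hu'R
    hr₀u.1 hr₀u.2
  have hfr : ∀ x : F, σ x = x → x ^ p = x := fun x hx => by rw [← hb.eq_pow, hx]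
  have hpw : ∀ k : ℕ, ∀ i, ((u' ^ k : GL (Fin 3) F) : Matrix (Fin 3) (Fin 3) F) i i =
      (![(z : F) * l, (z : F), (z : F) * (l : F)⁻¹] i) ^ k ∧ ∀ j, j < i →
      ((u' ^ k : GL (Fin 3) F) : Matrix (Fin 3) (Fin 3) F) i j = 0 := by
    intro k
    induction k with
    | zero =>
      intro i
      refine ⟨by simp, fun j hj => by simp [Matrix.one_apply_ne hj.ne']⟩
    | succ k ih =>
      have hv : (u' : Matrix (Fin 3) (Fin 3) F) = !![(z : F) * l, -((z : F) * δ), (z : F) * (-(δ * δ) / 2) * (l : F)⁻¹;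
          0, (z : F), (z : F) * δ * (l : F)⁻¹; 0, 0, (z : F) * (l : F)⁻¹] := by
        rw [e]
        simp only [Units.val_mul, scl_val, uR, uT_val, dR_val]
        ext a b; fin_cases a <;> fin_cases b <;> simp [mul_apply, Fin.sum_univ_three, hδ] <;> ring
      intro i
      have h00 := (ih 0).1
      have h11 := (ih 1).1
      have h22 := (ih 2).1
      have h10 := (ih 1).2 0 (by decide)
      have h20 := (ih 2).2 0 (by decide)
      have h21 := (ih 2).2 1 (by decide)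
      rw [pow_succ, Units.val_mul, hv]
      simp at h00 h11 h22 h10 h20 h21
      fin_cases i <;> refine ⟨?_, fun j hj => ?_⟩ <;> simp [mul_apply, Fin.sum_univ_three, h00, h11, h22, h10, h20, h21, pow_succ]
      all_goals fin_cases j <;> simp at hj ⊢ <;> simp [h00, h11, h22, h10, h20, h21]
  have hd := hpw p
  rw [hu'p] at hd
  have d1 := (hd 1).1
  have d0 := (hd 0).1
  simp at d0 d1
  have hzf : (z : F) = 1 := by
    have h3' := hz.1.2
    rw [scl_val, det_smul, det_one, mul_one, Fintype.card_fin] at h3'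
    have : (z : F) ^ p = (z : F) ^ (p % 3) := by
      conv_lhs => rw [show p = 3 * (p / 3) + p % 3 by omega, pow_add, pow_mul, h3', one_pow, one_mul]
    rw [this] at d1
    rcases (by omega : p % 3 = 1 ∨ p % 3 = 2 ∨ p % 3 = 0) with h | h | h
    · rw [h, pow_one] at d1; exact d1.symm
    · rw [h] at d1; linear_combination h3' + (z : F) * d1
    · exfalso
      have := (Nat.prime_dvd_prime_iff_eq Nat.prime_three hp).1 (Nat.dvd_of_mod_eq_zero h)
      omega
  have hl1 : (l : F) = 1 := by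
    rw [hzf, one_mul, hfr _ hl] at d0
    exact d0.symm
  have hu'e : u' = uR σ δ := by
    rw [e, show z = 1 from Units.ext (by simpa using hzf), show l = 1 from Units.ext (by simpa using hl1), dR_one, mul_one]
    refine (mul_eq_right (a := scl (1 : Fˣ))).2 (Units.ext ?_)
    rw [scl_val, Units.val_one, one_smul, Units.val_one]
  have hδ0 : δ ≠ 0 := fun e0 => by
    have h1 : u' = 1 := by rw [hu'e, e0, uR, ← uT_zero (σ := σ)]; simp
    rw [hu', mul_assoc, inv_mul_eq_one] at h1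
    have h2' : u = 1 := mul_eq_right.1 h1.symm
    rw [h2', orderOf_one] at hord
    omega
  -- a second point
  obtain ⟨g, hg, hgR, hgn⟩ := hmove r₀ hr₀
  obtain ⟨g', hg'⟩ : ∃ g', g' = r₀⁻¹ * g * r₀ := ⟨_, rfl⟩
  rw [← hg'] at hgn
  have hg'H : g' ∈ H := hg' ▸ H.mul_mem (H.mul_mem (H.inv_mem hr₀) hgR) hr₀
  obtain ⟨hg'J, z₁, A₁, hA₁, hz₁⟩ := id hg'H
  have hz₁0 : z₁ ≠ 0 := fun e => g'.ne_zero (by rw [hz₁, e, zero_smul])
  obtain ⟨o, c, hc⟩ := exists_rep hb h2 (v := fun i => (g' : Matrix (Fin 3) (Fin 3) F) i 0) (d := σ z₁ / z₁)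
    (by have := entry_rel hg'J 0 0; simpa [jf] using this)
    (fun i => by simp only [hz₁, Matrix.smul_apply, smul_eq_mul, map_mul, hA₁]; field_simp)
  rcases o with _ | δ₁
  · exact absurd ⟨by simpa [rep] using hc 1, by simpa [rep] using hc 2⟩ hgn
  set d := uR σ (δ₁ : F) with hd1
  have hdR : d ∈ H := uR_mem hb h2 δ₁.2
  set k := flip3 * d⁻¹ * g' with hk
  have hkR : k ∈ H := H.mul_mem (H.mul_mem flip3_mem (H.inv_mem hdR)) hg'H
  have hkp : k ∈ pStab F := by
    have h : (rep σ (some δ₁))⁻¹ * g' ∈ pStab F := inv_mul_mem_pStab c hc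
    rwa [rep, _root_.mul_inv_rev, inv_eq_of_mul_eq_one_right flip3_mul_self] at h
  obtain ⟨z', δ', l', hδ', hl', -, ek⟩ := Rational.point_form hb h2 (M := H) le_rfl hT (fun x hx => hx.1) hkR hkp.1 hkp.2
  set r := r₀ * d with hr
  have hupR : r * uR σ δ * r⁻¹ ∈ M := by
    have e1 : d * uR σ δ * d⁻¹ = uR σ δ := by
      rw [mul_inv_eq_iff_eq_mul, hd1, uR, uR, uT_mul, uT_mul]
      congr 1
      · ring
      · simp [hδ, show σ (δ₁ : F) = δ₁ from δ₁.2]; ring
    rw [hr, show r₀ * d * uR σ δ * (r₀ * d)⁻¹ = r₀ * (d * uR σ δ * d⁻¹) * r₀⁻¹ by group, e1, ← hu'e, hu']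
    simpa [mul_assoc] using hu
  have hlow : r * (flip3 * uR σ ((l' : F) * δ) * flip3) * r⁻¹ ∈ M := by
    have e1 : k * uR σ δ * k⁻¹ = uR σ ((l' : F) * δ) := by
      rw [mul_inv_eq_iff_eq_mul, ek]
      refine Units.ext ?_
      simp only [Units.val_mul, scl_val, uR, uT_val, dR_val]
      ext i j; fin_cases i <;> fin_cases j <;>
        simp [mul_apply, Fin.sum_univ_three, hδ, hδ', hl'] <;> field_simp <;> ring
    have hm := M.mul_mem (M.mul_mem hg hu) (M.inv_mem hg)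
    have e2 : g * u * g⁻¹ = r₀ * (g' * u' * g'⁻¹) * r₀⁻¹ := by rw [hg', hu']; group
    have e3 : g' = d * flip3 * k := by
      rw [hk, mul_assoc d flip3, ← mul_assoc flip3, ← mul_assoc flip3, flip3_mul_self, one_mul, mul_inv_cancel_left]
    rw [e2, hu'e, e3, show d * flip3 * k * uR σ δ * (d * flip3 * k)⁻¹ = d * (flip3 * (k * uR σ δ * k⁻¹) * flip3⁻¹) * d⁻¹ by group,
      e1, inv_eq_of_mul_eq_one_right flip3_mul_self] at hm
    rw [hr]
    convert hm using 1
    group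
  refine ⟨r, H.mul_mem hr₀ hdR, ?_⟩
  set M' := M.comap (MulAut.conj r).toMonoidHom with hM'
  have hU : ∀ x : F, σ x = x → uR σ x ∈ M' := fun x hx => unip_all hb h2 hp hδ hδ0 (M := M') hupR hx
  have hL : ∀ x : F, σ x = x → flip3 * uR σ x * flip3 ∈ M' := fun x hx =>
    lower_all hb h2 hp (by rw [map_mul, hl', hδ]) (mul_ne_zero l'.ne_zero hδ0) (M := M') hlow hx
  have hW : ∀ (a : Fˣ) (l : Fˣ), σ (a : F) = a → (l : F) = -2 / ((a : F) * a) → flip3 * dR l ∈ M' := fun a l ha hl => by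
    rw [← weyl_eq hb h2 ha hl]
    exact M'.mul_mem (M'.mul_mem (hU _ ha) (hL _ (by rw [map_div₀, map_neg, map_ofNat, ha]))) (hU _ ha)
  obtain ⟨m, hm⟩ : ∃ m : Fˣ, (m : F) = -2 := ⟨Units.mk0 _ (neg_ne_zero.2 h2), rfl⟩
  have hw1 : flip3 * dR m ∈ M' := hW 1 m (by simp) (by simp [hm])
  refine ⟨hU, fun l hl => ?_, m, by rw [hm, map_neg, map_ofNat], hw1⟩
  have hw2 : flip3 * dR (m * (l * l)) ∈ M' := hW l⁻¹ _ (by rw [Units.val_inv_eq_inv_val, map_inv₀, hl]) (by
    rw [Units.val_mul, Units.val_mul, hm, Units.val_inv_eq_inv_val]; field_simp)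
  have := M'.mul_mem (M'.inv_mem hw1) hw2
  rw [_root_.mul_inv_rev, mul_assoc, inv_mul_cancel_left, ← dR_mul m, inv_mul_cancel_left] at this
  exact this

end CfsgLib.SUThree.Hessian
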