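import Cfsg.Agent.SUThree.Hessian.OmegaPoint

/-!
# Overgroups of `Ω₃(p)`, `p ≡ 2 (mod 3)`, without transvections are rational
-/

set_option autoImplicit false
set_option linter.unusedSectionVars false

namespace CfsgLib.SUThree.Hessian

open Matrix CfsgLib.MaxSub CfsgLib.MaxSub.Circle CfsgLib.SUThree.Rational

variable {F : Type*} [Field F] [Fintype F] {p : ℕ} {σ : F ≃+* F} {M : Subgroup (GL (Fin 3) F)}
  (hM : OmegaData p σ M)
include hM

theorem exists_rep_mem (o : Option (fixed σ)) :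
    ∃ d ∈ pStab F, rep σ o * d ∈ M ⊓ realGroup σ := by
  rcases o with _ | δ
  · exact ⟨1, Subgroup.one_mem _, by rw [rep, mul_one]; exact Subgroup.one_mem _⟩
  · obtain ⟨l, hl, hw⟩ := hM.weyl
    refine ⟨dR l, dR_mem_pStab l, ?_, Subgroup.mul_mem _ (rep_mem hM.bar hM.two _) (dR_mem hM.bar hl)⟩
    rw [rep, mul_assoc]
    exact M.mul_mem (hM.unip δ δ.2) hw

theorem mem_real_of_conj {m : GL (Fin 3) F} (hm : m ∈ M) {δ : F} {l : Fˣ} (hl : σ (l : F) = l)
    (hreg : (l : F) * l ≠ 1 ∨ ((l : F) = 1 ∧ δ ≠ 0)) (hδ : σ δ = δ)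
    (hc : m⁻¹ * (uR σ δ * dR l) * m ∈ realGroup σ) : m ∈ realGroup σ := by
  have hb := hM.bar
  set h := m⁻¹ * (uR σ δ * dR l) * m with hh
  have hfix := fixed_entries_of_conj hl hc hb hh
  obtain ⟨v, hv⟩ : ∃ v : Fin 3 → F, v = fun i => ((m⁻¹ : GL (Fin 3) F) : Matrix (Fin 3) (Fin 3) F) i 0 := ⟨_, rfl⟩
  have hcol : ∀ i, ((h * m⁻¹ : GL (Fin 3) F) : Matrix (Fin 3) (Fin 3) F) i 0 = v i * l := fun i => by
    rw [hh, mul_inv_cancel_right, Units.val_mul, Units.val_mul, uR, uT_val, dR_val, hv]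
    simp [mul_apply, Fin.sum_univ_three]
  have hσ : ((h : Matrix (Fin 3) (Fin 3) F) *ᵥ fun i => σ (v i)) = (l : F) • fun i => σ (v i) := funext fun i => by
    have := congrArg σ (hcol i)
    rw [Units.val_mul, mul_apply, map_sum, map_mul, hl] at this
    simp only [map_mul, hfix] at this
    rw [Pi.smul_apply, smul_eq_mul, mul_comm, ← this, hv]
    rfl
  obtain ⟨w, hw⟩ : ∃ w, w = (m : Matrix (Fin 3) (Fin 3) F) *ᵥ fun i => σ (v i) := ⟨_, rfl⟩
  have hsw : (((uR σ δ * dR l : GL (Fin 3) F) : Matrix (Fin 3) (Fin 3) F) *ᵥ w) = (l : F) • w := by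
    rw [hw, ← mulVec_smul, ← hσ, mulVec_mulVec, mulVec_mulVec, ← Units.val_mul, ← Units.val_mul, hh,
      mul_assoc m⁻¹, mul_inv_cancel_left]
  rw [Units.val_mul, uR, uT_val, dR_val, hδ] at hsw
  have e0 := congrFun hsw 0
  have e1 := congrFun hsw 1
  have e2 := congrFun hsw 2
  simp [mulVec, dotProduct, mul_apply, Fin.sum_univ_three] at e0 e1 e2
  have hw12 : w 1 = 0 ∧ w 2 = 0 := by
    rcases hreg with hr | ⟨h1, hd⟩
    · have hw2 : w 2 = 0 := by
        by_contra h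
        refine hr ?_
        field_simp at e2
        linear_combination -(e2.resolve_right h)
      refine ⟨?_, hw2⟩
      rw [hw2, mul_zero, add_zero] at e1
      by_contra h
      exact hr (by rw [← mul_right_cancel₀ h (show 1 * w 1 = (l : F) * w 1 by rw [one_mul]; exact e1), mul_one])
    · rw [h1, inv_one, mul_one, one_mul] at e1
      have hw2 : w 2 = 0 := (mul_eq_zero.1 (show δ * w 2 = 0 by linear_combination e1)).resolve_left hd
      refine ⟨?_, hw2⟩
      rw [h1, hw2, mul_zero, add_zero] at e0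
      exact (mul_eq_zero.1 (show δ * w 1 = 0 by linear_combination -e0)).resolve_left hd
  have hrat : ∀ i, σ (v i) = w 0 * v i := fun i => by
    have : ((m⁻¹ : GL (Fin 3) F) : Matrix (Fin 3) (Fin 3) F) *ᵥ w = fun i => σ (v i) := by
      rw [hw, mulVec_mulVec, Units.inv_mul, one_mulVec]
    rw [← congrFun this i, hv]
    simp [mulVec, dotProduct, Fin.sum_univ_three, hw12.1, hw12.2, mul_comm]
  obtain ⟨o, c, hc⟩ := exists_rep hb hM.two (v := v)
    (by rw [hv]; have := entry_rel (hM.le (M.inv_mem hm)) 0 0; simpa [jf] using this) hrat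
  have hp : (rep σ o)⁻¹ * m⁻¹ ∈ pStab F := inv_mul_mem_pStab c fun i => by rw [← hc, hv]
  obtain ⟨d, hd, hdM⟩ := exists_rep_mem hM o
  have hp' : (rep σ o * d)⁻¹ * m⁻¹ ∈ pStab F := by
    rw [_root_.mul_inv_rev, mul_assoc]
    exact Subgroup.mul_mem _ (Subgroup.inv_mem _ hd) hp
  have hmem := point_form hM (M.mul_mem (M.inv_mem hdM.1) (M.inv_mem hm)) hp'.1 hp'.2
  have := Subgroup.inv_mem _ (Subgroup.mul_mem _ hdM.2 hmem)
  rwa [mul_inv_cancel_left, inv_inv] at this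

theorem relIndex_pStab' : (pStab F).relIndex (M ⊓ realGroup σ) = p + 1 := by
  classical
  rw [← Rational.relIndex_pStab hM.bar hM.two]
  set H := M ⊓ realGroup σ
  let f : ↥H ⧸ (pStab F).subgroupOf H → ↥(realGroup σ) ⧸ (pStab F).subgroupOf (realGroup σ) :=
    Subgroup.quotientSubgroupOfEmbeddingOfLE (pStab F) (inf_le_right : H ≤ realGroup σ)
  refine Nat.card_congr (Equiv.ofBijective f ⟨(Subgroup.quotientSubgroupOfEmbeddingOfLE _ _).injective, fun x => ?_⟩)
  induction x using QuotientGroup.induction_on with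
  | H g =>
    obtain ⟨hJ, z, A, hA, hz⟩ := g.2
    have hz0 : z ≠ 0 := fun e => (g : GL (Fin 3) F).ne_zero (by rw [hz, e, zero_smul])
    obtain ⟨o, c, hc⟩ := exists_rep hM.bar hM.two (v := fun i => ((g : GL (Fin 3) F) : Matrix (Fin 3) (Fin 3) F) i 0)
      (d := σ z / z) (by have := entry_rel hJ 0 0; simpa [jf] using this)
      (fun i => by simp only [hz, Matrix.smul_apply, smul_eq_mul, map_mul, hA]; field_simp)
    obtain ⟨d, hd, hdM⟩ := exists_rep_mem hM o
    refine ⟨QuotientGroup.mk ⟨_, hdM⟩, QuotientGroup.eq.2 ?_⟩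
    rw [Subgroup.mem_subgroupOf]
    show (rep σ o * d)⁻¹ * (g : GL (Fin 3) F) ∈ pStab F
    rw [_root_.mul_inv_rev, mul_assoc]
    exact Subgroup.mul_mem _ (Subgroup.inv_mem _ hd) (inv_mul_mem_pStab c hc)

theorem half_dvd_card (hp : p.Prime) (hp3 : 3 ≤ p) :
    p * ((p - 1) / 2) ∣ Nat.card ↥(sGroup hM.two σ ⊓ M) := by
  have hb := hM.bar
  haveI : Fact p.Prime := ⟨hp⟩
  have hchar : (p : F) = 0 := by
    obtain ⟨c, hc⟩ := CharP.exists F
    obtain ⟨n, hcp, hn⟩ := FiniteField.card F c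
    rw [hb.card] at hn
    rw [(Nat.prime_dvd_prime_iff_eq hp hcp).1 (hp.dvd_of_dvd_pow (hn ▸ dvd_pow_self p two_ne_zero))]
    exact CharP.cast_eq_zero F c
  have hu : orderOf (uR σ (1 : F)) = p := by
    refine orderOf_eq_prime ?_ fun e => ?_
    · have : ∀ n : ℕ, uR σ (1 : F) ^ n = uR σ (n : F) := fun n => by
        induction n with
        | zero => rw [pow_zero, uR, ← uT_zero (σ := σ)]; simp
        | succ n ih =>
          rw [pow_succ, ih, uR, uR, uR, uT_mul]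
          congr 1 <;> simp [map_natCast]
          have h2 := hM.two
          field_simp
          ring
      rw [this, hchar, uR, ← uT_zero (σ := σ)]; simp
    · rw [uR, ← uT_zero (σ := σ)] at e
      exact one_ne_zero (uT_inj e).1
  have hpne : p - 1 ≠ 0 := by omega
  obtain ⟨ζ, hζ⟩ : ∃ ζ : Fˣ, orderOf ζ = p - 1 := by
    obtain ⟨g, hg⟩ := IsCyclic.exists_ofOrder_eq_natCard (α := Fˣ)
    have hd : p - 1 ∣ orderOf g := by
      rw [hg, Nat.card_units, Nat.card_eq_fintype_card, hb.card]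
      exact ⟨p + 1, by rw [mul_comm, ← Nat.sq_sub_sq, one_pow]⟩
    obtain ⟨c, hc⟩ := hd
    refine ⟨g ^ c, ?_⟩
    have hc0 : c ≠ 0 := fun e => by
      rw [e, mul_zero] at hc
      exact (orderOf_pos g).ne' hc
    rw [orderOf_pow_of_dvd hc0 (hc ▸ dvd_mul_left c _), hc, Nat.mul_div_cancel _ (Nat.pos_of_ne_zero hc0)]
  have hζf : σ (ζ : F) = ζ := by
    rw [hb.eq_pow, ← Units.val_pow_eq_pow_val]
    congr 1
    rw [show p = p - 1 + 1 by omega, pow_succ, ← hζ, pow_orderOf_eq_one, one_mul]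
  let D : Fˣ →* GL (Fin 3) F :=
    { toFun := dR, map_one' := dR_one, map_mul' := fun a b => (dR_mul a b).symm }
  have hDi : Function.Injective D := fun a b e => Units.ext (by
    have h := congrFun (congrFun (congrArg (fun g : GL (Fin 3) F => (g : Matrix (Fin 3) (Fin 3) F)) e) 0) 0
    simpa [D, dR_val] using h)
  have hd : orderOf (dR (ζ * ζ)) = (p - 1) / 2 := by
    show orderOf (D (ζ * ζ)) = _
    rw [orderOf_injective D hDi, ← pow_two, orderOf_pow' _ two_ne_zero, hζ]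
    congr 1
    refine Nat.gcd_eq_right ?_
    rcases hp.eq_two_or_odd' with h | ⟨t, ht⟩
    · omega
    · exact ⟨t, by omega⟩
  refine Nat.Coprime.mul_dvd_of_dvd_of_dvd ((Nat.Prime.coprime_iff_not_dvd hp).2 fun h => ?_) ?_ ?_
  · have := Nat.le_of_dvd (by omega) h
    omega
  · refine (dvd_of_eq hu.symm).trans (Subgroup.orderOf_dvd_natCard _ ⟨⟨1, 1, map_one σ, map_one σ, ?_⟩, hM.unip 1 (map_one σ)⟩)
    rw [dR_one, mul_one]
  · refine (dvd_of_eq hd.symm).trans (Subgroup.orderOf_dvd_natCard _ ⟨⟨0, ζ * ζ, map_zero σ, ?_, ?_⟩, hM.torus ζ hζf⟩)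
    · rw [Units.val_mul, map_mul, hζf]
    · rw [show uR σ (0 : F) = 1 by rw [uR, ← uT_zero (σ := σ)]; simp, one_mul]

theorem dvd_two_mul (hp : p.Prime) (hp3 : 3 ≤ p) :
    p * ((p - 1) / 2) ∣ 2 * ((M ⊓ realGroup σ).relIndex M - 1) := by
  refine (half_dvd_card hM hp hp3).trans ?_
  have hb := hM.bar
  have h2 := hM.two
  refine card_dvd_mul_relIndex_sub_one (le_inf inf_le_right (inf_le_left.trans ((sGroup_le hb h2).trans inf_le_left)))
    inf_le_left fun m hm hmn => ?_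
  set T := (sGroup h2 σ ⊓ M) ⊓ (M ⊓ realGroup σ).map (MulAut.conj m).toMonoidHom
  have hform : ∀ t ∈ T, t = 1 ∨ ∃ δ : F, σ δ = δ ∧ t = uR σ δ * dR (-1) := by
    rintro t ⟨⟨⟨δ, l, hδ, hl, rfl⟩, -⟩, h, hh, e⟩
    have e' : h = m⁻¹ * (uR σ δ * dR l) * m := by
      rw [← e]; simp [mul_assoc]
    have hnr : ¬ ((l : F) * l ≠ 1 ∨ ((l : F) = 1 ∧ δ ≠ 0)) := fun hr =>
      hmn ⟨hm, mem_real_of_conj hM hm hl hr hδ (e' ▸ hh.2)⟩
    push Not at hnr
    rcases mul_self_eq_one_iff.1 hnr.1 with h1 | h1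
    · left
      rw [hnr.2 h1]
      refine Units.ext ?_
      rw [Units.val_mul, uR, uT_val, dR_val, Units.val_one, h1]
      ext i j; fin_cases i <;> fin_cases j <;> simp [mul_apply, Fin.sum_univ_three]
    · exact Or.inr ⟨δ, hδ, by rw [show l = -1 from Units.ext (by simpa using h1)]⟩
  have hmul : ∀ δ δ' : F, σ δ = δ → σ δ' = δ' →
      uR σ δ * dR (-1) * (uR σ δ' * dR (-1)) = uR σ (δ - δ') := fun δ δ' hδ hδ' => by
    refine Units.ext ?_
    simp only [Units.val_mul, uR, uT_val, dR_val]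
    ext i j; fin_cases i <;> fin_cases j <;> simp [mul_apply, Fin.sum_univ_three, hδ, hδ'] <;> field_simp <;> ring
  have hone : ∀ δ : F, σ δ = δ → ∀ δ' : F, σ δ' = δ' → uR σ δ * dR (-1) ∈ T → uR σ δ' * dR (-1) ∈ T → δ = δ' := by
    intro δ hδ δ' hδ' ht ht'
    have hp := T.mul_mem ht ht'
    rw [hmul δ δ' hδ hδ'] at hp
    rcases hform _ hp with h | ⟨e, he, h⟩
    · rw [uR, ← uT_zero (σ := σ)] at h
      exact sub_eq_zero.1 (uT_inj h).1
    · exfalso
      have h' := congrFun (congrFun (congrArg (fun g : GL (Fin 3) F => (g : Matrix (Fin 3) (Fin 3) F)) h) 0) 0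
      simp [uR, uT_val, dR_val, mul_apply, Fin.sum_univ_three] at h'
      exact h2 (by linear_combination h')
  by_cases hbot : ∀ t ∈ T, t = 1
  · rw [(Subgroup.eq_bot_iff_forall _).2 hbot, Subgroup.card_bot]; exact one_dvd _
  push Not at hbot
  obtain ⟨t, ht, ht1⟩ := hbot
  obtain ⟨δ, hδ, rfl⟩ := (hform t ht).resolve_left ht1
  have hle : T ≤ Subgroup.zpowers (uR σ δ * dR (-1)) := fun x hx => by
    rcases hform x hx with rfl | ⟨δ', hδ', rfl⟩
    · exact Subgroup.one_mem _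
    · rw [hone δ' hδ' δ hδ hx ht]; exact Subgroup.mem_zpowers _
  refine (Subgroup.card_dvd_of_le hle).trans ?_
  rw [Nat.card_zpowers]
  refine orderOf_dvd_of_pow_eq_one ?_
  rw [pow_two, hmul δ δ hδ hδ, sub_self, uR, ← uT_zero (σ := σ)]
  simp

/-- **An overgroup of small order of `Ω₃(p)` without transvections is rational.** -/
theorem le_real (hp : p.Prime) (h11 : 11 ≤ p) (hp2 : p % 3 = 2) (hz : ∃ z : Fˣ, z ≠ 1 ∧ (z : F) * z * z = 1)
    (hdvd : Nat.card M ∣ p ^ 3 * (p ^ 2 - 1) * (p ^ 3 + 1)) (hsmall : Nat.card M ≤ p ^ 3 * (p ^ 2 - 1)) :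
    M ≤ realGroup σ := by
  have hb := hM.bar
  set H := M ⊓ realGroup σ with hH
  suffices hn1 : H.relIndex M = 1 by
    exact (Subgroup.relIndex_eq_one.1 hn1).trans inf_le_right
  set n := H.relIndex M with hn
  have hpos : n ≠ 0 := Subgroup.FiniteIndex.index_ne_zero
  have hcard : ∀ K L : Subgroup (GL (Fin 3) F), K ≤ L → Nat.card K * K.relIndex L = Nat.card L := fun K L h => by
    rw [← Nat.card_congr (Subgroup.subgroupOfEquivOfLe h).toEquiv]
    exact Subgroup.card_mul_index _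
  obtain ⟨k, hk⟩ : ∃ k, k = Nat.card ↥(H ⊓ pStab F) := ⟨_, rfl⟩
  have hcM : Nat.card M = n * ((p + 1) * k) := by
    have h1 := hcard _ _ (inf_le_left : H ⊓ pStab F ≤ H)
    rw [Subgroup.inf_relIndex_left, hH, relIndex_pStab' hM, ← hH, ← hk] at h1
    rw [← hcard H M inf_le_left, ← h1, hn]; ring
  obtain ⟨t, ht⟩ : ∃ t, p = 2 * t + 1 := by
    rcases hp.eq_two_or_odd' with h | ⟨t, ht⟩
    · omega
    · exact ⟨t, ht⟩
  have hh : (p - 1) / 2 = t := by omega
  have h3 : 3 ∣ k := by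
    obtain ⟨z, hz1, hz3⟩ := hz
    have : Fact (Nat.Prime 3) := ⟨Nat.prime_three⟩
    have ho : orderOf (scl z) = 3 := by
      refine orderOf_eq_prime (Units.ext ?_) fun e => hz1 (Units.ext ?_)
      · rw [Units.val_pow_eq_pow_val, scl_val, smul_pow, one_pow, pow_succ, pow_two, hz3, one_smul, Units.val_one]
      · have h := congrFun (congrFun (congrArg (fun g : GL (Fin 3) F => (g : Matrix (Fin 3) (Fin 3) F)) e) 0) 0
        simpa [scl_val] using h
    have hzn : (z : F) * σ z = 1 := by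
      rw [hb.eq_pow, ← pow_succ', show p + 1 = 3 * ((p + 1) / 3) by omega, pow_mul, pow_succ, pow_two, hz3, one_pow]
    have hmem : scl z ∈ H ⊓ pStab F := ⟨⟨hM.scalar z hz3, scl_mem hzn hz3⟩, by simp [mem_pStab, scl_val]⟩
    exact ho ▸ hk ▸ Subgroup.orderOf_dvd_natCard _ hmem
  have hkh : p * t ∣ k := by
    rw [hk, ← hh]
    refine (half_dvd_card hM hp (by omega)).trans (Subgroup.card_dvd_of_le ?_)
    have := sGroup_le hb hM.two (σ := σ)
    exact fun x hx => ⟨⟨hx.2, (this hx.1).1⟩, (this hx.1).2⟩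
  have hk3 : 3 * (p * t) ∣ k := by
    refine Nat.Coprime.mul_dvd_of_dvd_of_dvd ((Nat.Prime.coprime_iff_not_dvd Nat.prime_three).2 fun h => ?_) h3 hkh
    rcases (Nat.Prime.dvd_mul Nat.prime_three).1 h with h | h <;> omega
  have hN : ∃ N, N + p = p ^ 2 + 1 := ⟨p ^ 2 + 1 - p, by have := Nat.le_self_pow two_ne_zero p; omega⟩
  obtain ⟨N, hN⟩ := hN
  have hfac : p ^ 3 + 1 = (p + 1) * N := by nlinarith
  have hsq : p ^ 2 - 1 = (p + 1) * (p - 1) := by rw [← Nat.sq_sub_sq, one_pow]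
  have hpm : p - 1 = 2 * t := by omega
  have hfull : p ^ 3 * (p ^ 2 - 1) * (p ^ 3 + 1) = (2 * p ^ 2 * (p + 1) * N) * ((p + 1) * (p * t)) := by
    rw [hsq, hfac, hpm]; ring
  have hd1 : 3 * n ∣ 2 * p ^ 2 * (p + 1) * N := by
    have h : n * (p + 1) * (3 * (p * t)) ∣ p ^ 3 * (p ^ 2 - 1) * (p ^ 3 + 1) := by
      refine (Nat.mul_dvd_mul_left (n * (p + 1)) hk3).trans ?_
      rwa [mul_assoc, ← hcM]
    rw [hfull, show n * (p + 1) * (3 * (p * t)) = (3 * n) * ((p + 1) * (p * t)) by ring] at h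
    exact Nat.dvd_of_mul_dvd_mul_right (Nat.mul_pos (by omega) (Nat.mul_pos (by omega) (by omega))) h
  have hle : 3 * n ≤ 2 * p ^ 2 := by
    have h : n * ((p + 1) * (3 * (p * t))) ≤ p ^ 3 * ((p + 1) * (2 * t)) := by
      rw [← hpm, ← hsq]
      refine le_trans (Nat.mul_le_mul_left _ (Nat.mul_le_mul_left _ (Nat.le_of_dvd ?_ hk3))) (hcM ▸ hsmall)
      exact Nat.pos_of_ne_zero fun e => by rw [e, mul_zero, mul_zero] at hcM; exact Nat.card_pos.ne' hcM
    have h' : 3 * n * ((p + 1) * (p * t)) ≤ 2 * p ^ 2 * ((p + 1) * (p * t)) := by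
      calc 3 * n * ((p + 1) * (p * t)) = n * ((p + 1) * (3 * (p * t))) := by ring
        _ ≤ p ^ 3 * ((p + 1) * (2 * t)) := h
        _ = 2 * p ^ 2 * ((p + 1) * (p * t)) := by ring
    exact Nat.le_of_mul_le_mul_right h' (Nat.mul_pos (by omega) (Nat.mul_pos (by omega) (by omega)))
  obtain ⟨j, hj⟩ := dvd_two_mul hM hp (by omega)
  rw [hh, ← hH, ← hn] at hj
  have hpt : 2 * (p * t) + p = p ^ 2 := by rw [ht]; ring
  have hj2 : j ≤ 2 := by
    by_contra h
    have := Nat.mul_le_mul_left (p * t) (show 3 ≤ j by omega)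
    have : 10 * p ≤ p ^ 2 := by rw [pow_two]; exact Nat.mul_le_mul_right _ (by omega)
    omega
  have hnp : ∀ m : ℕ, m * n + p = p ^ 2 + m → m ≤ 4 → Nat.Coprime n p := fun m hm hm4 => by
    refine ((Nat.Prime.coprime_iff_not_dvd hp).2 fun h => ?_).symm
    have h1 : p ∣ m := by
      have : p ∣ p ^ 2 + m := hm ▸ dvd_add (h.mul_left m) (dvd_refl p)
      exact (Nat.dvd_add_right (dvd_pow_self p two_ne_zero)).1 this
    rcases Nat.eq_zero_or_pos m with h0 | h0
    · subst h0; rw [zero_mul] at hm; nlinarith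
    · have := Nat.le_of_dvd h0 h1; omega
  have hd2 : n ∣ 2 * p ^ 2 * (p + 1) * N := (dvd_mul_left n 3).trans hd1
  interval_cases j
  · omega
  · exfalso
    have h4 : 4 * n + p = p ^ 2 + 4 := by omega
    have hd3 : n ∣ 2 * (p + 1) * N := ((hnp 4 h4 le_rfl).pow_right 2).dvd_of_dvd_mul_left (by
      rwa [show p ^ 2 * (2 * (p + 1) * N) = 2 * p ^ 2 * (p + 1) * N by ring])
    have hd4 : n ∣ 2 * (p + 1) * 3 := by
      have : n ∣ 2 * (p + 1) * N + 2 * (p + 1) * 3 := by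
        rw [← mul_add, show N + 3 = 4 * n by omega]; exact dvd_mul_of_dvd_right (dvd_mul_left n 4) _
      exact (Nat.dvd_add_right hd3).1 this
    have := Nat.le_of_dvd (by omega) hd4
    have : p ≤ 25 := by nlinarith
    have ht' : t ≤ 12 := by omega
    subst ht
    interval_cases t <;> first
      | omega
      | (have hn69 : n = 69 := by omega
         rw [hn69] at hd4
         norm_num at hd4)
  · exfalso
    have h2n : 2 * n + p = p ^ 2 + 2 := by omega
    have hd3 : n ∣ 2 * (p + 1) * N := ((hnp 2 h2n (by norm_num)).pow_right 2).dvd_of_dvd_mul_left (by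
      rwa [show p ^ 2 * (2 * (p + 1) * N) = 2 * p ^ 2 * (p + 1) * N by ring])
    have hd4 : n ∣ 2 * (p + 1) := by
      have : n ∣ 2 * (p + 1) * N + 2 * (p + 1) * 1 := by
        rw [← mul_add, show N + 1 = 2 * n by omega]; exact dvd_mul_of_dvd_right (dvd_mul_left n 2) _
      have := (Nat.dvd_add_right hd3).1 this
      rwa [mul_one] at this
    have := Nat.le_of_dvd (by omega) hd4
    nlinarith

end CfsgLib.SUThree.Hessian
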