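import Cfsg.Agent.SUThree.Rational.Count

/-!
# Point stabilisers in overgroups of `Ω₃(p)`
-/

set_option autoImplicit false
set_option linter.unusedSectionVars false

namespace CfsgLib.SUThree.Hessian

open Matrix CfsgLib.MaxSub CfsgLib.MaxSub.Circle CfsgLib.SUThree.Rational

variable {F : Type*} [Field F] [Fintype F] {q : ℕ} {σ : F ≃+* F}

/-- An overgroup in `jGroup` of the orthogonal group's derived subgroup and the cubic scalars, with no transvection. -/
structure OmegaData (q : ℕ) (σ : F ≃+* F) (M : Subgroup (GL (Fin 3) F)) : Prop where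
  bar : IsBar q σ
  two : (2 : F) ≠ 0
  fifteen : (15 : F) ≠ 0
  le : M ≤ jGroup σ
  noRoot : NoRoot σ M
  unip : ∀ δ : F, σ δ = δ → uR σ δ ∈ M
  torus : ∀ l : Fˣ, σ (l : F) = l → dR (l * l) ∈ M
  weyl : ∃ l : Fˣ, σ (l : F) = l ∧ flip3 * dR l ∈ M
  scalar : ∀ z : Fˣ, (z : F) * z * z = 1 → scl z ∈ M

theorem dR_mul (l l' : Fˣ) : (dR l * dR l' : GL (Fin 3) F) = dR (l * l') := by
  refine Units.ext ?_
  rw [Units.val_mul, dR_val, dR_val, dR_val]
  ext i j; fin_cases i <;> fin_cases j <;> simp [mul_apply, Fin.sum_univ_three, mul_comm]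

theorem dR_one : (dR (1 : Fˣ) : GL (Fin 3) F) = 1 := by
  refine Units.ext ?_
  rw [dR_val, Units.val_one]
  ext i j; fin_cases i <;> fin_cases j <;> simp

variable {M : Subgroup (GL (Fin 3) F)} (hM : OmegaData q σ M)
include hM

theorem fixed_of_uT {δ s a : F} (ha : σ a = a) (ha0 : a ≠ 0)
    (h : uT σ δ s * uR σ a * (uT σ δ s)⁻¹ ∈ M) : σ δ = δ := by
  have hc := M.mul_mem h (M.inv_mem (hM.unip a ha))
  have e : uT σ δ s * uR σ a * (uT σ δ s)⁻¹ * (uR σ a)⁻¹ = uT σ 0 (a * (δ - σ δ)) := by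
    rw [mul_assoc, ← _root_.mul_inv_rev, mul_inv_eq_iff_eq_mul, uR, uT_mul, uT_mul, uT_mul]
    congr 1 <;> simp [ha] <;> ring
  rw [e] at hc
  exact (sub_eq_zero.1 ((mul_eq_zero.1 (hM.noRoot _ hc)).resolve_left ha0)).symm

theorem point_form {g : GL (Fin 3) F} (hg : g ∈ M) (h10 : (g : Matrix (Fin 3) (Fin 3) F) 1 0 = 0)
    (h20 : (g : Matrix (Fin 3) (Fin 3) F) 2 0 = 0) : g ∈ realGroup σ := by
  have hb := hM.bar
  have h2 := hM.two
  have hgJ := hM.le hg
  obtain ⟨lm, hlm⟩ : ∃ a, a = (g : Matrix (Fin 3) (Fin 3) F) 0 0 := ⟨_, rfl⟩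
  obtain ⟨μ, hμ⟩ : ∃ a, a = (g : Matrix (Fin 3) (Fin 3) F) 1 1 := ⟨_, rfl⟩
  obtain ⟨ν, hν⟩ : ∃ a, a = (g : Matrix (Fin 3) (Fin 3) F) 2 2 := ⟨_, rfl⟩
  have r02 := entry_rel hgJ 0 2
  have r01 := entry_rel hgJ 0 1
  have r11 := entry_rel hgJ 1 1
  simp [h10, h20, ← hlm, ← hμ, ← hν] at r01 r02 r11
  have hl0 : lm ≠ 0 := left_ne_zero_of_mul_eq_one r02
  have h21 : (g : Matrix (Fin 3) (Fin 3) F) 2 1 = 0 := r01.resolve_left hl0
  simp [h21] at r11
  have hdet : lm * μ * ν = 1 := by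
    have hd := hgJ.2
    rw [det_fin_three, h10, h20, h21, ← hlm, ← hμ, ← hν] at hd
    linear_combination hd
  have hν0 : ν ≠ 0 := right_ne_zero_of_mul_eq_one hdet
  -- a conjugate of a unipotent element
  set u := g * uR σ 1 * g⁻¹ with hu
  have huM : u ∈ M := M.mul_mem (M.mul_mem hg (hM.unip 1 (map_one σ))) (M.inv_mem hg)
  have eg : (u : Matrix (Fin 3) (Fin 3) F) * (g : Matrix (Fin 3) (Fin 3) F) =
      (g : Matrix (Fin 3) (Fin 3) F) * (uR σ 1 : GL (Fin 3) F) := by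
    rw [← Units.val_mul, ← Units.val_mul]; congr 1; rw [hu]; group
  have col : ∀ i, (u : Matrix (Fin 3) (Fin 3) F) i 0 * lm = (g : Matrix (Fin 3) (Fin 3) F) i 0 := fun i => by
    have h := congrFun (congrFun eg i) 0
    simp [mul_apply, Fin.sum_univ_three, h10, h20, ← hlm, uR, uT_val] at h
    exact h
  have hue : u = uT σ ((u : Matrix (Fin 3) (Fin 3) F) 1 2) ((u : Matrix (Fin 3) (Fin 3) F) 0 2) := by
    refine eq_uT hb (hM.le huM) ?_ ?_ ?_
    · exact mul_right_cancel₀ hl0 (by rw [col, one_mul, hlm])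
    · exact mul_right_cancel₀ hl0 (by rw [col, h10, zero_mul])
    · exact mul_right_cancel₀ hl0 (by rw [col, h20, zero_mul])
  obtain ⟨δ', hδ'⟩ : ∃ a, a = (u : Matrix (Fin 3) (Fin 3) F) 1 2 := ⟨_, rfl⟩
  have hfix : σ δ' = δ' := by
    rw [hδ']
    refine fixed_of_uT hM (a := 1) (s := (u : Matrix (Fin 3) (Fin 3) F) 0 2) (map_one σ) one_ne_zero ?_
    rw [← hue]
    exact M.mul_mem (M.mul_mem huM (hM.unip 1 (map_one σ))) (M.inv_mem huM)
  have hδν : δ' * ν = μ := by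
    have h := congrFun (congrFun eg 1) 2
    rw [hue] at h
    simp [mul_apply, Fin.sum_univ_three, h10, h21, ← hμ, ← hν, ← hδ', uR, uT_val] at h
    linear_combination h
  -- the scalar
  have hσν : lm * σ ν = 1 := r02
  have hσl : σ lm * ν = 1 := by
    have := congrArg σ hσν
    rwa [map_mul, hb.involutive, map_one] at this
  have hμl : μ = σ lm / lm := by
    rw [eq_div_iff hl0]
    refine mul_right_cancel₀ hν0 ?_
    linear_combination hdet - hσl
  have hμ3 : μ * μ * μ = 1 := by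
    have e : δ' = σ lm * σ lm / lm := by
      refine mul_right_cancel₀ hν0 ?_
      rw [hδν, hμl, div_mul_eq_mul_div]
      congr 1
      linear_combination (-σ lm) * hσl
    rw [e, map_div₀, map_mul, hb.involutive] at hfix
    have hσl0 : σ lm ≠ 0 := (map_ne_zero σ).2 hl0
    rw [div_eq_div_iff hσl0 hl0] at hfix
    rw [hμl]; field_simp
    linear_combination -hfix
  have hμ1 : μ * σ μ = 1 := r11
  have hμ0 : μ ≠ 0 := left_ne_zero_of_mul_eq_one hμ1
  obtain ⟨z, hz⟩ : ∃ z : Fˣ, (z : F) = μ * μ := ⟨Units.mk0 _ (mul_ne_zero hμ0 hμ0), rfl⟩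
  have hz3 : (z : F) * z * z = 1 := by rw [hz]; linear_combination (μ * μ * μ + 1) * hμ3
  have hzR : scl z ∈ realGroup σ := scl_mem
    (by rw [hz, map_mul]; linear_combination (μ * σ μ + 1) * hμ1) hz3
  set g' := scl z * g with hg'
  have hg'M : g' ∈ M := M.mul_mem (hM.scalar z hz3) hg
  suffices hreal : g' ∈ realGroup σ by
    have := Subgroup.mul_mem _ (Subgroup.inv_mem _ hzR) hreal
    rwa [hg', inv_mul_cancel_left] at this
  have hval : ∀ i j, (g' : Matrix (Fin 3) (Fin 3) F) i j = z * (g : Matrix (Fin 3) (Fin 3) F) i j := fun i j => by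
    rw [hg', Units.val_mul, scl_val, smul_one_mul, Matrix.smul_apply, smul_eq_mul]
  have hl' : σ ((z : F) * lm) = z * lm := by
    rw [map_mul, hz, map_mul, show σ lm = μ * lm by rw [hμl]; field_simp]
    linear_combination lm * (σ μ + μ * μ) * hμ1 - (lm * σ μ) * hμ3
  set L : Fˣ := Units.mk0 ((z : F) * lm) (mul_ne_zero z.ne_zero hl0) with hL
  have hLf : σ (L : F) = L := hl'
  obtain ⟨h, hh⟩ : ∃ h, h = g' * (dR L)⁻¹ := ⟨_, rfl⟩
  have hhJ : h ∈ jGroup σ := hh ▸ (jGroup σ).mul_mem (hM.le hg'M) ((jGroup σ).inv_mem (dR_mem hb hLf).1)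
  have eh : (h : Matrix (Fin 3) (Fin 3) F) * (dR L : GL (Fin 3) F) = g' := by
    rw [← Units.val_mul, hh, inv_mul_cancel_right]
  have colh : ∀ i, (h : Matrix (Fin 3) (Fin 3) F) i 0 * (L : F) = (g' : Matrix (Fin 3) (Fin 3) F) i 0 := fun i => by
    have h := congrFun (congrFun eh i) 0
    simpa [mul_apply, Fin.sum_univ_three, dR_val] using h
  have hhe := eq_uT hb hhJ
    (mul_right_cancel₀ L.ne_zero (by rw [colh, hval, ← hlm, one_mul]; rfl))
    (mul_right_cancel₀ L.ne_zero (by rw [colh, hval, h10, mul_zero, zero_mul]))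
    (mul_right_cancel₀ L.ne_zero (by rw [colh, hval, h20, mul_zero, zero_mul]))
  obtain ⟨δ, hδdef⟩ : ∃ a, a = (h : Matrix (Fin 3) (Fin 3) F) 1 2 := ⟨_, rfl⟩
  obtain ⟨s, hsdef⟩ : ∃ a, a = (h : Matrix (Fin 3) (Fin 3) F) 0 2 := ⟨_, rfl⟩
  rw [← hδdef, ← hsdef] at hhe
  have hg'e : g' = uT σ δ s * dR L := by rw [← hhe, hh, inv_mul_cancel_right]
  have hδ : σ δ = δ := by
    refine fixed_of_uT hM (a := (L : F)) (s := s) hLf L.ne_zero ?_
    have e1 : dR L * uR σ 1 * (dR L)⁻¹ = uR σ (L : F) := by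
      rw [mul_inv_eq_iff_eq_mul]
      refine Units.ext ?_
      simp only [Units.val_mul, uR, uT_val, dR_val]
      ext i j; fin_cases i <;> fin_cases j <;> simp [mul_apply, Fin.sum_univ_three, hLf] <;> field_simp <;> ring
    have := M.mul_mem (M.mul_mem hg'M (hM.unip 1 (map_one σ))) (M.inv_mem hg'M)
    rw [hg'e] at this
    rw [← e1]
    convert this using 1
    group
  obtain ⟨t, ht⟩ : ∃ a, a = s + δ * δ / 2 := ⟨_, rfl⟩
  have e2 : g' = uR σ δ * (uT σ 0 t * dR L) := by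
    rw [hg'e, ← mul_assoc, uR, uT_mul]
    congr 2
    · rw [add_zero]
    · rw [ht, mul_zero, sub_zero]; ring
  have hkM : uT σ 0 t * dR L ∈ M := by
    have := M.mul_mem (M.inv_mem (hM.unip δ hδ)) hg'M
    rwa [e2, inv_mul_cancel_left] at this
  have ht0 : t = 0 := by
    obtain ⟨two', htwo⟩ : ∃ l : Fˣ, (l : F) = 2 := ⟨Units.mk0 2 h2, rfl⟩
    have hD := hM.torus two' (by rw [htwo, map_ofNat])
    set D := dR (two' * two')
    have hc := M.mul_mem (M.mul_mem (M.mul_mem hD hkM) (M.inv_mem hD)) (M.inv_mem hkM)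
    have e : D * (uT σ 0 t * dR L) * D⁻¹ * (uT σ 0 t * dR L)⁻¹ = uT σ 0 (15 * t) := by
      rw [mul_inv_eq_iff_eq_mul, mul_inv_eq_iff_eq_mul]
      refine Units.ext ?_
      simp only [D, Units.val_mul, uT_val, dR_val, htwo]
      ext i j; fin_cases i <;> fin_cases j <;> simp [mul_apply, Fin.sum_univ_three] <;> field_simp <;> ring
    rw [e] at hc
    exact (mul_eq_zero.1 (hM.noRoot _ hc)).resolve_left hM.fifteen
  rw [e2, ht0, uT_zero, one_mul]
  exact Subgroup.mul_mem _ (uR_mem hb h2 hδ) (dR_mem hb hLf)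

end CfsgLib.SUThree.Hessian
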