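import Cfsg.Agent.SUThree.Hessian.Omega
import Cfsg.Agent.SUThree.Hessian.OmegaCount
import Cfsg.Agent.SUThree.Hessian.Standard
import Cfsg.Agent.SUThree.Rational.Frame
import Cfsg.Agent.SUThree.Index
import Cfsg.Agent.SLThree.Hessian.Klein

/-!
# A triangle of homologies of infinite type is impossible in a small overgroup of the Heisenberg group

The three centres span a rational structure; the rotations give a rational element of order `p`, hence `Ω₃(p)`.
-/

set_option autoImplicit false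
set_option linter.unusedSectionVars false

namespace CfsgLib.SUThree.Hessian

open Matrix Cfsg.Geo CfsgLib.MaxSub CfsgLib.MaxSub.UC CfsgLib.MaxSub.Circle CfsgLib.SUThree.Rational
open CfsgLib.SLThree (NoFlag Flag flag_of_tv)
open CfsgLib.SLThree.Hessian (Omega heis clock shift clock_mem shift_mem scalar_mem cube_cases)

variable {F : Type*} [Field F] [Fintype F] {p : ℕ} {σ : F ≃+* F}

/-- The conjugate of `SU₃` by a frame. -/
theorem su_comap (hf : IsUnitaryForm σ (Cfsg.hermForm 3 F p)) {Q : GL (Fin 3) F} {k : F} (hk : k ≠ 0)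
    (hQ : ∀ x y, Cfsg.hermForm 3 F p ((Q : Matrix (Fin 3) (Fin 3) F) *ᵥ x) ((Q : Matrix (Fin 3) (Fin 3) F) *ᵥ y) =
      k * jf σ x y) :
    (Cfsg.GU 3 F p ⊓ specialLinear (Fin 3) F).comap (MulAut.conj Q).toMonoidHom = jGroup σ := by
  ext g
  rw [Subgroup.mem_comap, show (MulAut.conj Q).toMonoidHom g = Q * g * Q⁻¹ from rfl, Subgroup.mem_inf, su_det hf,
    Units.val_mul, Units.val_mul, det_units_conj, mem_GU_iff_forall]
  refine ⟨fun h => ⟨fun x y => mul_left_cancel₀ hk ?_, h.2⟩, fun h => ⟨fun x y => ?_, h.2⟩⟩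
  · have := h.1 ((Q : Matrix (Fin 3) (Fin 3) F) *ᵥ x) ((Q : Matrix (Fin 3) (Fin 3) F) *ᵥ y)
    simp only [Units.val_mul, mulVec_mulVec, mul_assoc, Units.inv_mul, mul_one] at this
    rw [← hQ, ← hQ, mulVec_mulVec, mulVec_mulVec]
    exact this
  · obtain ⟨x, rfl⟩ : ∃ x', x = (Q : Matrix (Fin 3) (Fin 3) F) *ᵥ x' :=
      ⟨((Q⁻¹ : GL (Fin 3) F) : Matrix (Fin 3) (Fin 3) F) *ᵥ x, by rw [mulVec_mulVec, Units.mul_inv, one_mulVec]⟩
    obtain ⟨y, rfl⟩ : ∃ y', y = (Q : Matrix (Fin 3) (Fin 3) F) *ᵥ y' :=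
      ⟨((Q⁻¹ : GL (Fin 3) F) : Matrix (Fin 3) (Fin 3) F) *ᵥ y, by rw [mulVec_mulVec, Units.mul_inv, one_mulVec]⟩
    simp only [Units.val_mul, mulVec_mulVec, mul_assoc, Units.inv_mul, mul_one]
    rw [hQ, ← mulVec_mulVec, ← mulVec_mulVec, hQ, h.1]

theorem noFlag_comap {M : Subgroup (GL (Fin 3) F)} (hno : NoFlag M) (P : GL (Fin 3) F) :
    NoFlag (M.comap (MulAut.conj P).toMonoidHom) := by
  rintro v a ⟨h0, hv, ha, c, hc, hm⟩
  rw [Subgroup.mem_comap, show (MulAut.conj P).toMonoidHom (tv (c • v) a) = P * tv (c • v) a * P⁻¹ from rfl,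
    conj_tv, mulVec_smul] at hm
  refine hno ((P : Matrix (Fin 3) (Fin 3) F) *ᵥ v) (a ᵥ* ((P⁻¹ : GL (Fin 3) F) : Matrix (Fin 3) (Fin 3) F))
    ⟨by rw [dot_conj, h0], ?_, ?_, c, hc, hm⟩
  · intro e0; exact hv (mulVec_injective_iff_isUnit.2 P.isUnit (e0.trans (mulVec_zero _).symm))
  · intro e0; exact ha (vecMul_injective_of_isUnit P⁻¹.isUnit (e0.trans (zero_vecMul _).symm))

variable (o : Omega F) (hb : IsBar p σ) (hf : IsUnitaryForm σ (Cfsg.hermForm 3 F p))

set_option maxHeartbeats 1000000 in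
include hb hf in
/-- **No triangle.** -/
theorem false_of_triangle (hp : p.Prime) (h11 : 11 ≤ p) (hp2 : p % 3 = 2) {M : Subgroup (GL (Fin 3) F)}
    (hMS : M ≤ Cfsg.GU 3 F p ⊓ specialLinear (Fin 3) F) (hno : NoFlag M) (hheis : heis o ≤ M)
    (hsmall : Nat.card M ≤ p ^ 3 * (p ^ 2 - 1)) {e : Fin 3 → Fin 3 → F} {g : Fin 3 → GL (Fin 3) F} {u m c : F}
    (hg : ∀ i, g i ∈ M)
    (hge : ∀ i x, (g i : Matrix (Fin 3) (Fin 3) F) *ᵥ x =
      -x + (2 * Cfsg.hermForm 3 F p x (e i) / Cfsg.hermForm 3 F p (e i) (e i)) • e i)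
    (h00 : Cfsg.hermForm 3 F p (e 0) (e 0) = 2) (h11' : Cfsg.hermForm 3 F p (e 1) (e 1) = 2)
    (h22 : Cfsg.hermForm 3 F p (e 2) (e 2) = m) (h01 : Cfsg.hermForm 3 F p (e 0) (e 1) = -1)
    (h02 : Cfsg.hermForm 3 F p (e 0) (e 2) = 0) (h12 : Cfsg.hermForm 3 F p (e 1) (e 2) = u)
    (hu : σ u = u) (hu0 : u ≠ 0) (hc : u * u = 2 * (c * m)) (hc3 : 4 * c ≠ 3) (ht1 : 4 * c - 2 ≠ -1)
    (ht0 : 4 * c - 2 ≠ 0) (ht5 : (4 * c - 2) ^ 2 + (4 * c - 2) - 1 ≠ 0) : False := by
  classical
  haveI : Fact p.Prime := ⟨hp⟩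
  haveI := charP_of_bar hb hp
  have hs := sesqForm_of_unitary hf
  have hnz : ∀ n : ℕ, 0 < n → n < p → (n : F) ≠ 0 := fun n h0 h hc => by
    have := Nat.le_of_dvd h0 ((CharP.cast_eq_zero_iff F p n).1 hc)
    omega
  have h2 : (2 : F) ≠ 0 := by simpa using hnz 2 (by norm_num) (by omega)
  have h15 : (15 : F) ≠ 0 := by
    rw [show (15 : F) = (3 : ℕ) * (5 : ℕ) by norm_num]
    exact mul_ne_zero (hnz 3 (by norm_num) (by omega)) (hnz 5 (by norm_num) (by omega))
  have hm0 : m ≠ 0 := fun e => hu0 (mul_self_eq_zero.1 (by rw [hc, e, mul_zero, mul_zero]))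
  have hm : σ m = m := by rw [← h22]; exact (hf.herm _ _).symm
  -- the Gram matrix
  obtain ⟨G, hG⟩ : ∃ G : Matrix (Fin 3) (Fin 3) F, G = !![2, -1, 0; -1, 2, u; 0, u, m] := ⟨_, rfl⟩
  have hGram : ∀ i j, Cfsg.hermForm 3 F p (e i) (e j) = G i j := by
    intro i j
    rw [hG]
    fin_cases i <;> fin_cases j <;> simp [h00, h11', h22, h01, h02, h12]
    · rw [hf.herm, h01, map_neg, map_one]
    · rw [hf.herm, h02, map_zero]
    · rw [hf.herm, h12, hu]
  have hGfix : ∀ i j, σ (G i j) = G i j := by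
    intro i j; rw [hG]; fin_cases i <;> fin_cases j <;> simp [hu, hm, map_ofNat]
  have hGii : ∀ i, G i i ≠ 0 := by intro i; rw [hG]; fin_cases i <;> simp [h2, hm0]
  have hdetG : G.det ≠ 0 := by
    rw [hG, det_fin_three]
    simp
    intro h
    exact hc3 (mul_right_cancel₀ hm0 (by linear_combination -h - 2 * hc))
  have hind : ∀ x : Fin 3 → F, x 0 • e 0 + x 1 • e 1 + x 2 • e 2 = 0 → x = 0 := fun x hx => by
    have hv : x ᵥ* G = 0 := funext fun j => by
      have h := congrArg (fun v => Cfsg.hermForm 3 F p v (e j)) hx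
      simp only [hs.add_left, hs.smul_left, hs.zero_left, hGram] at h
      simp [vecMul, dotProduct, Fin.sum_univ_three]
      exact h
    by_contra h0
    exact hdetG (Matrix.exists_vecMul_eq_zero_iff.1 ⟨x, h0, hv⟩)
  obtain ⟨P, hPc⟩ : ∃ P : GL (Fin 3) F, ∀ x, (P : Matrix (Fin 3) (Fin 3) F) *ᵥ x = x 0 • e 0 + x 1 • e 1 + x 2 • e 2 := by
    set Pm : Matrix (Fin 3) (Fin 3) F := (Matrix.of e)ᵀ with hPm
    have hPc : ∀ x : Fin 3 → F, Pm *ᵥ x = x 0 • e 0 + x 1 • e 1 + x 2 • e 2 := fun x => by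
      funext i; simp [hPm, mulVec, dotProduct, Fin.sum_univ_three, mul_comm]
    have hunit : IsUnit Pm := mulVec_injective_iff_isUnit.1 ((injective_iff_map_eq_zero Pm.mulVecLin).2 fun x hx => by
      rw [mulVecLin_apply, hPc] at hx; exact hind x hx)
    exact ⟨hunit.unit, hPc⟩
  -- the fixed field
  set F₀ : Subfield F := (σ : F →+* F).eqLocusField (RingHom.id F) with hF₀
  have hfix : ∀ x, x ∈ F₀ ↔ σ x = x := fun x => Iff.rfl
  haveI : Fintype F₀ := Fintype.ofFinite F₀
  have hcard₀ : Fintype.card F₀ = p := by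
    rw [← Nat.card_eq_fintype_card, ← card_fixedSub hb]
    exact Nat.card_congr (Equiv.subtypeEquivRight fun x => Iff.rfl)
  have hP : IsFormRationalStructure (Cfsg.hermForm 3 F p) F₀ 1 P := fun x y hx hy => by
    rw [hfix, one_mul, hPc, hPc]
    have hx' : ∀ i, σ (x i) = x i := hx
    have hy' : ∀ i, σ (y i) = y i := hy
    simp [hs.add_left, hs.add_right, hs.smul_left, hs.smul_right, hGram, hx', hy', hGfix]
  obtain ⟨R, k, hk, -, hQ⟩ := exists_frame hb hf h2 F₀ hfix hP
  obtain ⟨ι, hι⟩ : ∃ ι : GL (Fin 3) F₀ →* GL (Fin 3) F, ι = GeneralLinearGroup.map (F₀.subtype : F₀ →+* F) := ⟨_, rfl⟩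
  have hιv : ∀ x i j, (ι x : Matrix (Fin 3) (Fin 3) F) i j = ((x : Matrix (Fin 3) (Fin 3) F₀) i j : F) :=
    fun x i j => by rw [hι]; rfl
  rw [← hι] at hQ
  set Q := P * ι R with hQdef
  set M' := M.comap (MulAut.conj Q).toMonoidHom with hM'
  have hMJ : M' ≤ jGroup σ := su_comap hf hk hQ ▸ Subgroup.comap_mono hMS
  have hno' : NoFlag M' := noFlag_comap hno Q
  set χ : GL (Fin 3) F₀ →* GL (Fin 3) F := (MulAut.conj Q).toMonoidHom.comp ι with hχ
  have hιi : Function.Injective ι := fun a b h => Units.ext (Matrix.ext fun i j => Subtype.ext (by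
    rw [← hιv, ← hιv, h]))
  have hχi : Function.Injective χ := (MulAut.conj Q).injective.comp hιi
  set X : Subgroup (GL (Fin 3) F₀) := M.comap χ with hX
  have hXM : ∀ x ∈ X, ι x ∈ M' := fun x hx => hx
  have hreal : ∀ x ∈ X, ι x ∈ realGroup σ := fun x hx =>
    ⟨hMJ (hXM x hx), 1, _, fun i j => by rw [hιv]; exact (hfix _).1 (SetLike.coe_mem _), (one_smul F _).symm⟩
  -- the three homologies over the fixed field
  have hlift : ∀ i, ∃ A : GL (Fin 3) F₀, χ (R⁻¹ * A * R) = g i ∧ ∀ (v : Fin 3 → F₀) j,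
      (((A : Matrix (Fin 3) (Fin 3) F₀) *ᵥ v) j + v j : F₀).1 =
        (if j = i then 2 * ((v 0 : F) * G 0 i + (v 1 : F) * G 1 i + (v 2 : F) * G 2 i) / G i i else 0) := by
    intro i
    obtain ⟨A', hA'⟩ : ∃ A' : Matrix (Fin 3) (Fin 3) F, A' = fun a b =>
      (if a = i then 2 * G b i / G i i else 0) - (1 : Matrix (Fin 3) (Fin 3) F) a b := ⟨_, rfl⟩
    have hAv : ∀ (x : Fin 3 → F) j, (A' *ᵥ x) j + x j =
        if j = i then 2 * (x 0 * G 0 i + x 1 * G 1 i + x 2 * G 2 i) / G i i else 0 := fun x j => by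
      simp only [hA', mulVec, dotProduct, Fin.sum_univ_three]
      fin_cases j <;> simp [Matrix.one_apply] <;> split_ifs <;> field_simp <;> ring
    have hA'f : ∀ a b, A' a b ∈ F₀ := fun a b => by
      rw [hfix, hA']
      simp only [map_sub, Matrix.one_apply]
      split_ifs <;> simp [map_div₀, map_ofNat, hGfix]
    have key : P⁻¹ * g i * P = P⁻¹ * g i * P ∧
        ((P⁻¹ * g i * P : GL (Fin 3) F) : Matrix (Fin 3) (Fin 3) F) = A' := by
      refine ⟨rfl, ?_⟩
      have hcol : (g i : Matrix (Fin 3) (Fin 3) F) * P = (P : Matrix (Fin 3) (Fin 3) F) * A' := by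
        refine Matrix.ext_iff_mulVec.mpr fun x => ?_
        rw [← mulVec_mulVec, ← mulVec_mulVec, hge, hPc, hPc, hGram]
        have h : ∀ j, (A' *ᵥ x) j = (if j = i then 2 * (x 0 * G 0 i + x 1 * G 1 i + x 2 * G 2 i) / G i i else 0) - x j :=
          fun j => by rw [← hAv, add_sub_cancel_right]
        rw [h, h, h]
        simp only [hs.add_left, hs.smul_left, hGram]
        fin_cases i <;> simp <;> module
      rw [Units.val_mul, Units.val_mul, mul_assoc, hcol, ← mul_assoc, Units.inv_mul, one_mul]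
    let A₀ : Matrix (Fin 3) (Fin 3) F₀ := fun a b => ⟨A' a b, hA'f a b⟩
    have hA₀ : A₀.map F₀.subtype = A' := Matrix.ext fun a b => rfl
    have hdet : A₀.det ≠ 0 := fun h => by
      have h' : A'.det = 0 := by rw [← hA₀, ← RingHom.mapMatrix_apply, ← RingHom.map_det, h, map_zero]
      have hu := (Matrix.isUnit_iff_isUnit_det _).1 (P⁻¹ * g i * P).isUnit
      rw [key.2, h'] at hu
      exact not_isUnit_zero hu
    refine ⟨GeneralLinearGroup.mkOfDetNeZero A₀ hdet, ?_, fun v j => ?_⟩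
    · have e : ι (GeneralLinearGroup.mkOfDetNeZero A₀ hdet) = P⁻¹ * g i * P :=
        Units.ext (by rw [key.2]; ext a b; rw [hιv]; rfl)
      show Q * ι _ * Q⁻¹ = _
      rw [map_mul, map_mul, map_inv, e, hQdef]
      group
    · rw [← hAv (fun a => (v a : F)) j]
      show ((A₀ *ᵥ v) j + v j : F₀).1 = _
      simp [A₀, mulVec, dotProduct, Fin.sum_univ_three]
  choose A hA hAv using hlift
  have hAX : ∀ i, R⁻¹ * A i * R ∈ X := fun i => by rw [hX, Subgroup.mem_comap, hA]; exact hg i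
  have hirr : MaxSub.Irreducible X := by
    intro W hW
    refine or_iff_not_imp_left.2 fun hne => ?_
    obtain ⟨w, hw, hw0⟩ := Submodule.exists_mem_ne_zero_of_ne_bot hne
    -- in the coordinates of the centres
    set W' := W.comap (Matrix.toLin' ((R⁻¹ : GL (Fin 3) F₀) : Matrix (Fin 3) (Fin 3) F₀)) with hW'
    have hmem : ∀ v, v ∈ W' ↔ ((R⁻¹ : GL (Fin 3) F₀) : Matrix (Fin 3) (Fin 3) F₀) *ᵥ v ∈ W := fun v => by
      rw [hW', Submodule.mem_comap, toLin'_apply]
    have hinv : ∀ i v, v ∈ W' → (A i : Matrix (Fin 3) (Fin 3) F₀) *ᵥ v ∈ W' := fun i v hv => by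
      rw [hmem] at hv ⊢
      have := hW _ (hAX i) _ hv
      simpa only [Units.val_mul, mulVec_mulVec, mul_assoc, Units.mul_inv, mul_one] using this
    have hget : ∀ i v, v ∈ W' → (v 0 : F) * G 0 i + (v 1 : F) * G 1 i + (v 2 : F) * G 2 i ≠ 0 →
        (Pi.single i 1 : Fin 3 → F₀) ∈ W' := fun i v hv hne => by
      have h := W'.add_mem (hinv i v hv) hv
      set s := (((A i : Matrix (Fin 3) (Fin 3) F₀) *ᵥ v) i + v i) with hsd
      have hs0 : s ≠ 0 := fun h0 => by
        have := hAv i v i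
        rw [← hsd, h0, if_pos rfl] at this
        exact hne ((mul_eq_zero.1 ((div_eq_zero_iff.1 this.symm).resolve_right (hGii i))).resolve_left h2)
      have e : (A i : Matrix (Fin 3) (Fin 3) F₀) *ᵥ v + v = s • (Pi.single i 1 : Fin 3 → F₀) := by
        funext j
        rcases eq_or_ne j i with rfl | hj
        · simp [hsd]
        · refine Subtype.ext ?_
          have := hAv i v j
          rw [if_neg hj] at this
          rw [Pi.add_apply, this]
          simp [hj]
      rw [e] at h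
      simpa [smul_smul, inv_mul_cancel₀ hs0] using W'.smul_mem s⁻¹ h
    have hsingle : ∀ i j : Fin 3, ((Pi.single i 1 : Fin 3 → F₀) 0 : F) * G 0 j + ((Pi.single i 1 : Fin 3 → F₀) 1 : F) * G 1 j +
        ((Pi.single i 1 : Fin 3 → F₀) 2 : F) * G 2 j = G i j := fun i j => by fin_cases i <;> simp
    have hstep : ∀ i j, G i j ≠ 0 → (Pi.single i 1 : Fin 3 → F₀) ∈ W' → (Pi.single j 1 : Fin 3 → F₀) ∈ W' :=
      fun i j hij hi => hget j _ hi (by rw [hsingle]; exact hij)
    obtain ⟨v, hv, hv0⟩ : ∃ v ∈ W', v ≠ 0 := ⟨(R : Matrix (Fin 3) (Fin 3) F₀) *ᵥ w, by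
      rw [hmem, mulVec_mulVec, Units.inv_mul, one_mulVec]; exact hw, fun h0 => hw0
        (mulVec_injective_iff_isUnit.2 R.isUnit (h0.trans (mulVec_zero _).symm))⟩
    obtain ⟨i, hi⟩ : ∃ i, (v 0 : F) * G 0 i + (v 1 : F) * G 1 i + (v 2 : F) * G 2 i ≠ 0 := by
      by_contra hn
      push Not at hn
      refine hv0 ?_
      have : (fun a => (v a : F)) = 0 := by
        by_contra h0
        exact hdetG (Matrix.exists_vecMul_eq_zero_iff.1 ⟨_, h0, funext fun j => by
          simp [vecMul, dotProduct, Fin.sum_univ_three]; exact hn j⟩)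
      exact funext fun a => Subtype.ext (congrFun this a)
    have g01 : G 0 1 ≠ 0 := by simp [hG]
    have g10 : G 1 0 ≠ 0 := by simp [hG]
    have g12 : G 1 2 ≠ 0 := by simp [hG, hu0]
    have g21 : G 2 1 ≠ 0 := by simp [hG, hu0]
    have h1 : (Pi.single 1 1 : Fin 3 → F₀) ∈ W' := by
      have := hget i v hv hi
      fin_cases i
      · exact hstep 0 1 g01 this
      · exact this
      · exact hstep 2 1 g21 this
    have h0 := hstep 1 0 g10 h1
    have h2' := hstep 1 2 g12 h1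
    have htop : W' = ⊤ := eq_top_iff.2 fun x _ => by
      rw [show x = x 0 • (Pi.single 0 1 : Fin 3 → F₀) + x 1 • Pi.single 1 1 + x 2 • Pi.single 2 1 by
        funext a; fin_cases a <;> simp]
      exact W'.add_mem (W'.add_mem (W'.smul_mem _ h0) (W'.smul_mem _ h1)) (W'.smul_mem _ h2')
    refine eq_top_iff.2 fun x _ => ?_
    have h : (R : Matrix (Fin 3) (Fin 3) F₀) *ᵥ x ∈ W' := htop ▸ Submodule.mem_top
    rwa [hmem, mulVec_mulVec, Units.inv_mul, one_mulVec] at h
  -- the rotation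
  set T₀ := (R⁻¹ * A 1 * R) * (R⁻¹ * A 2 * R) with hT₀
  set T := g 1 * g 2 with hT
  have hχT : χ T₀ = T := by rw [hT₀, map_mul, hA, hA]
  have hTe2 : (T : Matrix (Fin 3) (Fin 3) F) *ᵥ e 1 = (4 * c - 1) • e 1 + (-(2 * u / m)) • e 2 := by
    rw [hT, Units.val_mul, ← mulVec_mulVec, hge 2, hGram, hGram, mulVec_add, mulVec_neg, mulVec_smul, hge 1, hge 1,
      hGram, hGram, hG]
    simp
    match_scalars <;> field_simp <;> first
      | ring1
      | linear_combination 2 * hc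
      | linear_combination (-2 : F) * hc
      | linear_combination 4 * hc
      | linear_combination (-4 : F) * hc
      | linear_combination hc
      | linear_combination -hc
  have hTe3 : (T : Matrix (Fin 3) (Fin 3) F) *ᵥ e 2 = -e 2 + u • e 1 := by
    rw [hT, Units.val_mul, ← mulVec_mulVec, hge 2, hGram, hG]
    simp [hm0]
    rw [show -e 2 + (2 : F) • e 2 = e 2 by module, hge 1, hGram, hGram, hG]
    simp [h2]
  set T₂ := (T : Matrix (Fin 3) (Fin 3) F) *ᵥ e 1 with hT2
  have hrec : (T : Matrix (Fin 3) (Fin 3) F) *ᵥ T₂ = (4 * c - 2) • T₂ + (-1 : F) • e 1 := by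
    conv_lhs => rw [hTe2, mulVec_add, mulVec_smul, mulVec_smul, ← hT2, hTe3, hTe2]
    rw [hTe2]
    match_scalars <;> field_simp <;> first
      | ring1
      | linear_combination 2 * hc
      | linear_combination (-2 : F) * hc
      | linear_combination 4 * hc
      | linear_combination (-4 : F) * hc
      | linear_combination hc
      | linear_combination -hc
  have hindT : ∀ a b : F, a • T₂ + b • e 1 = e 1 → a = 0 ∧ b = 1 := fun a b h => by
    rw [hTe2] at h
    have h' := hind ![0, a * (4 * c - 1) + b - 1, a * -(2 * u / m)] (by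
      simp only [cons_val_zero, cons_val_one, cons_val]
      rw [show (0 : F) = 0 from rfl]
      linear_combination (norm := module) h)
    have e1 := congrFun h' 1
    have e2 := congrFun h' 2
    simp [hu0, hm0, h2] at e1 e2
    rw [e2] at e1
    exact ⟨e2, by linear_combination e1⟩
  have hord : 6 ≤ orderOf T := by
    by_contra hlt
    push Not at hlt
    have hpos : 0 < orderOf T := orderOf_pos T
    have hfixT : ((T : Matrix (Fin 3) (Fin 3) F) ^ orderOf T) *ᵥ e 1 = e 1 := by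
      rw [← Units.val_pow_eq_pow_val, pow_orderOf_eq_one, Units.val_one, one_mulVec]
    have hstep : ∀ a b : F, (T : Matrix (Fin 3) (Fin 3) F) *ᵥ (a • T₂ + b • e 1) =
        (a * (4 * c - 2) + b) • T₂ + (-a) • e 1 := fun a b => by
      rw [mulVec_add, mulVec_smul, mulVec_smul, hrec, ← hT2]
      module
    have p1 : ((T : Matrix (Fin 3) (Fin 3) F) ^ 1) *ᵥ e 1 = (1 : F) • T₂ + (0 : F) • e 1 := by
      rw [pow_one, ← hT2]; module
    have hsucc : ∀ n, ∀ a b : F, ((T : Matrix (Fin 3) (Fin 3) F) ^ n) *ᵥ e 1 = a • T₂ + b • e 1 →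
        ((T : Matrix (Fin 3) (Fin 3) F) ^ (n + 1)) *ᵥ e 1 = (a * (4 * c - 2) + b) • T₂ + (-a) • e 1 := fun n a b h => by
      rw [pow_succ', ← mulVec_mulVec, h, hstep]
    have p2 := hsucc 1 _ _ p1
    have p3 := hsucc 2 _ _ p2
    have p4 := hsucc 3 _ _ p3
    have p5 := hsucc 4 _ _ p4
    interval_cases hk' : orderOf T
    · exact one_ne_zero (hindT _ _ (p1.symm.trans hfixT)).1
    · have h := (hindT _ _ (p2.symm.trans hfixT)).2
      exact h2 (by linear_combination -h)
    · have h := (hindT _ _ (p3.symm.trans hfixT)).2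
      exact ht1 (by linear_combination -h)
    · have h := (hindT _ _ (p4.symm.trans hfixT)).2
      exact ht0 (pow_eq_zero_iff two_ne_zero |>.1 (show (4 * c - 2) ^ 2 = 0 by linear_combination -h))
    · obtain ⟨h, h'⟩ := hindT _ _ (p5.symm.trans hfixT)
      rcases mul_eq_zero.1 (show (4 * c - 2 - 1) * ((4 * c - 2) ^ 2 + (4 * c - 2) - 1) = 0 by linear_combination -h') with h1 | h1
      · rw [sub_eq_zero.1 h1] at h
        exact one_ne_zero (show (1 : F) = 0 by linear_combination -h)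
      · exact ht5 h1
  obtain ⟨w₀, hw₀0, hw₀⟩ : ∃ w₀ : Fin 3 → F₀, w₀ ≠ 0 ∧ (T₀ : Matrix (Fin 3) (Fin 3) F₀) *ᵥ w₀ = w₀ := by
    let v₀ : Fin 3 → F₀ := ![⟨2 * m - u * u, (hfix _).2 (by simp [map_ofNat, hm, hu])⟩, ⟨m, (hfix _).2 hm⟩,
      ⟨-u, (hfix _).2 (by simp [hu])⟩]
    refine ⟨((R⁻¹ : GL (Fin 3) F₀) : Matrix (Fin 3) (Fin 3) F₀) *ᵥ v₀, fun h => ?_, ?_⟩
    · have h' := congrFun ((mulVec_injective_iff_isUnit.2 (R⁻¹).isUnit) (h.trans (mulVec_zero _).symm)) 1
      exact hm0 (congrArg Subtype.val h')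
    · rw [mulVec_mulVec, ← Units.val_mul, show T₀ * R⁻¹ = R⁻¹ * (A 1 * A 2) by rw [hT₀]; group, Units.val_mul,
        Units.val_mul, ← mulVec_mulVec, ← mulVec_mulVec]
      congr 1
      have e2 : (A 2 : Matrix (Fin 3) (Fin 3) F₀) *ᵥ v₀ = -v₀ := eq_neg_of_add_eq_zero_left (funext fun j => by
        refine Subtype.ext ?_
        rw [Pi.add_apply, hAv]
        simp [v₀, hG]
        intro _
        first | exact Or.inl (Or.inr (by ring1)) | ring1)
      have e1 : (A 1 : Matrix (Fin 3) (Fin 3) F₀) *ᵥ v₀ = -v₀ := eq_neg_of_add_eq_zero_left (funext fun j => by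
        refine Subtype.ext ?_
        rw [Pi.add_apply, hAv]
        simp [v₀, hG]
        intro _
        first | exact Or.inl (Or.inr (by ring1)) | ring1)
      rw [e2, mulVec_neg, e1, neg_neg]
  have h2₀ : (2 : F₀) ≠ 0 := fun e => h2 (by rw [← map_ofNat F₀.subtype 2, e, map_zero])
  have hJ : ∀ x ∈ X, (x : Matrix (Fin 3) (Fin 3) F₀)ᵀ * !![0, 0, 1; 0, 1, 0; 1, 0, 0] * (x : Matrix (Fin 3) (Fin 3) F₀) =
      (!![0, 0, 1; 0, 1, 0; 1, 0, 0] : Matrix (Fin 3) (Fin 3) F₀) := fun x hx => by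
    ext a b
    have r := entry_rel (hMJ (hXM x hx)) a b
    have hf' : ∀ i j, σ ((x : Matrix (Fin 3) (Fin 3) F₀) i j : F) = ((x : Matrix (Fin 3) (Fin 3) F₀) i j : F) :=
      fun i j => (hfix _).1 (SetLike.coe_mem _)
    simp only [hιv, hf'] at r
    fin_cases a <;> fin_cases b <;> simp [mul_apply, Fin.sum_univ_three] at r ⊢ <;> linear_combination r
  have hdetX : ∀ x ∈ X, (x : Matrix (Fin 3) (Fin 3) F₀).det = 1 := fun x hx => by
    refine Subtype.ext ?_
    have h := (hMJ (hXM x hx)).2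
    rw [show (ι x : Matrix (Fin 3) (Fin 3) F) = (x : Matrix (Fin 3) (Fin 3) F₀).map F₀.subtype from Matrix.ext (hιv x),
      ← RingHom.mapMatrix_apply, ← RingHom.map_det] at h
    exact h
  have hnoX : NoFlag X := by
    rintro v a ⟨h0, hv, ha, s, hs', hm'⟩
    have hdot : (fun i => (a i : F)) ⬝ᵥ (fun i => (v i : F)) = 0 := by
      have := congrArg Subtype.val h0
      simpa [dotProduct, Fin.sum_univ_three] using this
    refine hno' (fun i => (v i : F)) (fun i => (a i : F)) ⟨hdot, fun e => hv (funext fun i => Subtype.ext (congrFun e i)),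
      fun e => ha (funext fun i => Subtype.ext (congrFun e i)), (s : F), fun e => hs' (Subtype.ext e), ?_⟩
    convert hXM _ hm' using 1
    refine Units.ext (Matrix.ext fun i j => ?_)
    rw [hιv, tv_coe (by rw [dotProduct_smul, hdot, smul_zero]), tv_coe (by rw [dotProduct_smul, h0, smul_zero])]
    simp [vecMulVec_apply, Matrix.one_apply, apply_ite]
  have hdvd := CfsgLib.SLThree.Hessian.dvd_card_of_rotation (p := p) hcard₀ h2₀
    (show (!![0, 0, 1; 0, 1, 0; 1, 0, 0] : Matrix (Fin 3) (Fin 3) F₀)ᵀ = _ by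
      ext a b; fin_cases a <;> fin_cases b <;> simp)
    (by simp [det_fin_three]) hJ hdetX hnoX hirr (X.mul_mem (hAX 1) (hAX 2)) hw₀0 hw₀
    (by rw [← orderOf_injective χ hχi, ← hT₀, hχT]; exact hord)
  obtain ⟨⟨x₀, hx₀⟩, hox⟩ := exists_prime_orderOf_dvd_card' p hdvd
  rw [Subgroup.orderOf_mk] at hox
  -- Omega
  obtain ⟨r, hrR, hU, hD, hW⟩ := exists_omega hb h2 hp hMJ (hXM _ hx₀) (hreal _ hx₀)
    (by rw [orderOf_injective ι hιi]; exact hox) (by omega) (fun r hr => by
      by_contra hn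
      push Not at hn
      obtain ⟨hrJ, z, B, hB, hrz⟩ := hr
      let a : Fin 3 → F₀ := fun i => ⟨B i 0, hB i 0⟩
      have ha0 : a ≠ 0 := fun e => by
        have h00 : ∀ i, (r : Matrix (Fin 3) (Fin 3) F) i 0 = 0 := fun i => by
          rw [hrz, Matrix.smul_apply, show B i 0 = 0 from congrArg Subtype.val (congrFun e i), smul_zero]
        have := congrFun (congrFun r.inv_mul 0) 0
        simp [mul_apply, Fin.sum_univ_three, h00] at this
      obtain ⟨i₀, hi₀⟩ := Function.ne_iff.1 ha0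
      rcases hirr (Submodule.span F₀ {a}) (fun x hx w hw => by
        obtain ⟨t, rfl⟩ := Submodule.mem_span_singleton.1 hw
        rw [mulVec_smul]
        refine Submodule.smul_mem _ _ (Submodule.mem_span_singleton.2
          ⟨((x : Matrix (Fin 3) (Fin 3) F₀) *ᵥ a) i₀ / a i₀, ?_⟩)
        obtain ⟨k', hk'⟩ : ∃ k', k' = r⁻¹ * ι x * r := ⟨_, rfl⟩
        have hkp : k' ∈ pStab F := hk' ▸ hn _ (hXM x hx) (hreal x hx)
        have e : ι x * r = r * k' := by rw [hk']; group
        have hcol : ∀ j, (((x : Matrix (Fin 3) (Fin 3) F₀) *ᵥ a) j : F) = (a j : F) * (k' : Matrix (Fin 3) (Fin 3) F) 0 0 :=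
          fun j => by
          have h := congrFun (congrFun (congrArg (fun g : GL (Fin 3) F => (g : Matrix (Fin 3) (Fin 3) F)) e) j) 0
          have hz0 : z ≠ 0 := fun e => r.ne_zero (by rw [hrz, e, zero_smul])
          simp only [Units.val_mul, mul_apply, Fin.sum_univ_three, hkp.1, hkp.2, mul_zero, add_zero, hιv, hrz,
            Matrix.smul_apply, smul_eq_mul] at h
          simp [a, mulVec, dotProduct, Fin.sum_univ_three]
          refine mul_left_cancel₀ hz0 ?_
          linear_combination h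
        funext j
        refine Subtype.ext ?_
        have ha' : (a i₀ : F) ≠ 0 := fun e => hi₀ (Subtype.ext e)
        simp [hcol]
        field_simp) with h | h
      · exact ha0 (Submodule.span_singleton_eq_bot.1 h)
      · have := finrank_span_singleton (K := F₀) ha0
        rw [h, finrank_top, Module.finrank_fin_fun] at this
        omega)
  set φ := (MulAut.conj (Q * r)).toMonoidHom with hφ
  have hφa : ∀ x, φ x = Q * (r * x * r⁻¹) * Q⁻¹ := fun x => by
    show Q * r * x * (Q * r)⁻¹ = _; group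
  set M'' := M.comap φ with hM''
  have hmem : ∀ x, r * x * r⁻¹ ∈ M' → x ∈ M'' := fun x hx => by
    rw [hM'', Subgroup.mem_comap, hφa]; exact hx
  have hM''J : M'' ≤ jGroup σ := fun x hx => by
    have h : r * x * r⁻¹ ∈ jGroup σ := hMJ (by
      show Q * (r * x * r⁻¹) * Q⁻¹ ∈ M
      rw [← hφa]; exact hx)
    have := (jGroup σ).mul_mem ((jGroup σ).mul_mem ((jGroup σ).inv_mem hrR.1) h) hrR.1
    rwa [show r⁻¹ * (r * x * r⁻¹) * r = x by group] at this
  have hroot : NoRoot σ M'' := fun s hs'' => by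
    by_contra hs0
    refine noFlag_comap hno (Q * r) (Pi.single 0 1) (Pi.single 2 1) ⟨by simp, by simp, by simp, s, hs0, ?_⟩
    convert hs'' using 1
    refine Units.ext ?_
    rw [tv_coe (by simp), uT_val]
    ext a b; fin_cases a <;> fin_cases b <;> simp [vecMulVec_apply]
  have hscl : ∀ z : Fˣ, (z : F) * z * z = 1 → scl z ∈ M'' := fun z hz => by
    rw [hM'', Subgroup.mem_comap]
    have e : φ (scl z) = scl z := by
      show Q * r * scl z * (Q * r)⁻¹ = scl z
      rw [mul_inv_eq_iff_eq_mul]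
      exact Units.ext (by rw [Units.val_mul, Units.val_mul _ (Q * r), scl_val]; simp)
    rw [e]
    obtain ⟨i, hi⟩ := cube_cases o (show (z : F) ^ 3 = 1 by rw [pow_succ, pow_two, hz])
    obtain ⟨W, hW⟩ : ∃ W : GL (Fin 3) F, (W : Matrix (Fin 3) (Fin 3) F) = o.w • 1 :=
      ⟨scl (Units.mk0 o.w o.ne_zero), scl_val _⟩
    have : scl z = W ^ (i : ℕ) := Units.ext (by
      rw [Units.val_pow_eq_pow_val, scl_val, hW, smul_pow, one_pow, hi])
    rw [this]
    exact M.pow_mem (hheis (scalar_mem o hW)) _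
  have hcard : Nat.card M'' = Nat.card M := by
    rw [Nat.card_congr (M''.equivMapOfInjective φ (MulAut.conj (Q * r)).injective).toEquiv, hM'',
      Subgroup.map_comap_eq_self (fun x _ => ⟨(MulAut.conj (Q * r)).symm x, (MulAut.conj (Q * r)).apply_symm_apply x⟩)]
  have hle := le_real (M := M'') ⟨hb, h2, h15, hM''J, hroot, fun δ h => hmem _ (hU δ h), fun l h => hmem _ (hD l h),
      let ⟨l, hl, hl'⟩ := hW; ⟨l, hl, hmem _ hl'⟩, hscl⟩ hp h11 hp2
    ⟨Units.mk0 o.w o.ne_zero, fun e => o.ne_one (congrArg Units.val e), by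
      show o.w * o.w * o.w = 1; linear_combination o.cube⟩
    (hcard ▸ card_su hb.card ▸ Subgroup.card_dvd_of_le hMS) (hcard ▸ hsmall)
  -- clock and shift are not rational
  have hin : ∀ x ∈ M, (Q * r)⁻¹ * x * (Q * r) ∈ M'' := fun x hx => by
    rw [hM'', Subgroup.mem_comap]
    show Q * r * ((Q * r)⁻¹ * x * (Q * r)) * (Q * r)⁻¹ ∈ M
    convert hx using 1; group
  obtain ⟨-, z, B, hB, hC⟩ := hle (hin _ (hheis (clock_mem o)))
  obtain ⟨-, z', B', hB', hS⟩ := hle (hin _ (hheis (shift_mem o)))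
  set C := (Q * r)⁻¹ * clock o * (Q * r) with hCd
  set S := (Q * r)⁻¹ * shift F * (Q * r) with hSd
  have hsc : (C : Matrix (Fin 3) (Fin 3) F) * S = o.w • ((S : Matrix (Fin 3) (Fin 3) F) * C) := by
    have hcs : (clock o : Matrix (Fin 3) (Fin 3) F) * shift F = o.w • ((shift F : Matrix (Fin 3) (Fin 3) F) * clock o) := by
      rw [CfsgLib.SLThree.Hessian.shift_mul_clock o, smul_smul]
      have : o.w * o.w ^ 2 = 1 := by linear_combination o.cube
      rw [this, one_smul]
    rw [← Units.val_mul, ← Units.val_mul, hCd, hSd,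
      show (Q * r)⁻¹ * clock o * (Q * r) * ((Q * r)⁻¹ * shift F * (Q * r)) = (Q * r)⁻¹ * (clock o * shift F) * (Q * r) by group,
      show (Q * r)⁻¹ * shift F * (Q * r) * ((Q * r)⁻¹ * clock o * (Q * r)) = (Q * r)⁻¹ * (shift F * clock o) * (Q * r) by group]
    simp only [Units.val_mul, hcs, mul_smul_comm, smul_mul_assoc]
  rw [hC, hS, smul_mul_smul_comm, smul_mul_smul_comm] at hsc
  have hz0 : z * z' ≠ 0 := mul_ne_zero (fun e => C.ne_zero (by rw [hC, e, zero_smul]))
    (fun e => S.ne_zero (by rw [hS, e, zero_smul]))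
  have e1 : B * B' = o.w • (B' * B) := smul_right_injective _ hz0 (hsc.trans (by module))
  have hne : (B' * B : Matrix (Fin 3) (Fin 3) F) ≠ 0 := fun e => (S * C).ne_zero (by
    rw [Units.val_mul, hC, hS, smul_mul_smul_comm, e, smul_zero])
  obtain ⟨a, b, hab⟩ : ∃ a b, (B' * B) a b ≠ 0 := by
    by_contra hn; push Not at hn; exact hne (Matrix.ext hn)
  have h := congrFun (congrFun e1 a) b
  rw [Matrix.smul_apply, smul_eq_mul] at h
  have hσ := congrArg σ h
  have hf1 : σ ((B * B') a b) = (B * B') a b := by simp [mul_apply, Fin.sum_univ_three, hB, hB']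
  have hf2 : σ ((B' * B) a b) = (B' * B) a b := by simp [mul_apply, Fin.sum_univ_three, hB, hB']
  rw [hf1, map_mul, hf2, bar_w o hb hp2, h] at hσ
  exact o.ne_one (mul_left_cancel₀ o.ne_zero (mul_right_cancel₀ hab (by linear_combination -hσ)))

end CfsgLib.SUThree.Hessian
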