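import Cfsg.Agent.SLThree.Hessian.Reflection
import Cfsg.Agent.SUThree.Hessian.Rotation

/-!
# No further involution commutes with the central one, unitary case
-/

set_option autoImplicit false
set_option linter.unusedSectionVars false

namespace CfsgLib.SUThree.Hessian

open Matrix Cfsg.Geo CfsgLib.MaxSub CfsgLib.MaxSub.UC CfsgLib.MaxSub.Circle CfsgLib.SUThree.Rational
open CfsgLib.SLThree (NoFlag Hom homMat homMat_smul exists_hom)
open CfsgLib.SLThree.Hessian (Omega heis clock shift four tw quat cent four_sq four_refl tw_refl cent_refl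
  refl_mul_refl_mul MatIn Bad false_of_bad exists_refl_eq trace_conj_cent_refl homMat_mulVec' clock_mem shift_mem)

variable {F : Type*} [Field F] [Fintype F] {p : ℕ} {σ : F ≃+* F}

/-- The axis of a unitary homology is polar to its centre. -/
theorem hom_polar (hf : IsUnitaryForm σ (Cfsg.hermForm 3 F p)) (h2 : (2 : F) ≠ 0) {e f : Fin 3 → F}
    (he : f ⬝ᵥ e = 1) {g : GL (Fin 3) F} (hg : g ∈ Cfsg.GU 3 F p) (hge : (g : Matrix (Fin 3) (Fin 3) F) = homMat e f) :
    Cfsg.hermForm 3 F p e e ≠ 0 ∧ ∀ x, f ⬝ᵥ x = Cfsg.hermForm 3 F p x e / Cfsg.hermForm 3 F p e e := by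
  have hs := sesqForm_of_unitary hf
  have hx : ∀ x, Cfsg.hermForm 3 F p x e = (f ⬝ᵥ x) * Cfsg.hermForm 3 F p e e := by
    intro x
    set y := x - (f ⬝ᵥ x) • e with hy
    have hfy : f ⬝ᵥ y = 0 := by rw [hy, dotProduct_sub, dotProduct_smul, he, smul_eq_mul, mul_one, sub_self]
    have hye : Cfsg.hermForm 3 F p y e = 0 := by
      have h := mem_GU_iff_forall.1 hg y e
      rw [hge, homMat_mulVec', homMat_mulVec', hfy, he, mul_zero, zero_smul, add_zero, mul_one,
        show -e + (2 : F) • e = e by module, hs.neg_left] at h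
      exact (mul_eq_zero.1 (show (2 : F) * Cfsg.hermForm 3 F p y e = 0 by linear_combination -h)).resolve_left h2
    rw [show x = y + (f ⬝ᵥ x) • e by rw [hy]; abel, hs.add_left, hs.smul_left, hye, zero_add, dotProduct_add, hfy,
      zero_add, dotProduct_smul, he, smul_eq_mul, mul_one]
  have he0 : Cfsg.hermForm 3 F p e e ≠ 0 := fun h0 => by
    obtain ⟨x, hx'⟩ := hs.exists_left_ne_zero (show e ≠ 0 from fun e0 => by simp [e0] at he)
    exact hx' (by rw [hx, h0, mul_zero])
  exact ⟨he0, fun x => by rw [hx, mul_div_cancel_right₀ _ he0]⟩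

variable (o : Omega F) (hb : IsBar p σ) (hf : IsUnitaryForm σ (Cfsg.hermForm 3 F p))

set_option maxHeartbeats 1000000 in
include hb hf in
/-- **No further involution commutes with the central one.** -/
theorem false_of_commuting (hp : p.Prime) (h11 : 11 ≤ p) (hp2 : p % 3 = 2) {M : Subgroup (GL (Fin 3) F)}
    (hMS : M ≤ Cfsg.GU 3 F p ⊓ specialLinear (Fin 3) F) (hno : NoFlag M) (hheis : heis o ≤ M)
    (hq : ∀ k, quat o k ∈ M) (hsmall : Nat.card M ≤ p ^ 3 * (p ^ 2 - 1))
    {r : GL (Fin 3) F} (hr : r ∈ M) (hr2 : r * r = 1) (hr1 : r ≠ 1) (hrz : r ≠ cent)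
    (hcomm : cent * r = r * cent) : False := by
  classical
  haveI : Fact p.Prime := ⟨hp⟩
  haveI := charP_of_bar hb hp
  have hs := sesqForm_of_unitary hf
  have h2 : (2 : F) ≠ 0 := fun e => by
    have := Nat.le_of_dvd (by norm_num) ((CharP.cast_eq_zero_iff F p 2).1 (by exact_mod_cast e))
    omega
  have h3 := o.three
  have h4 : (4 : F) ≠ 0 := by rw [show (4 : F) = 2 * 2 by norm_num]; exact mul_ne_zero h2 h2
  have hdetM : ∀ g ∈ M, (g : Matrix (Fin 3) (Fin 3) F).det = 1 := fun g hg => (su_det hf).1 (hMS hg).2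
  have hclock : clock o ∈ M := hheis (clock_mem o)
  have hfour : four o ∈ M := by simpa [quat] using hq 0
  have hcent : (cent : GL (Fin 3) F) ∈ M := four_sq o ▸ M.mul_mem hfour hfour
  set a : Fin 3 → F := ![0, 1, -1] with ha
  set fa : Fin 3 → F := ![0, 2⁻¹, -2⁻¹] with hfa
  have hce : (cent : GL (Fin 3) F).1 = homMat a fa := by
    show (!![-1, 0, 0; 0, 0, -1; 0, -1, 0] : Matrix (Fin 3) (Fin 3) F) = _
    ext i j; fin_cases i <;> fin_cases j <;> simp [homMat, ha, hfa, vecMulVec_apply] <;> field_simp <;> ring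
  have hfa1 : fa ⬝ᵥ a = 1 := by simp [ha, hfa, dotProduct, Fin.sum_univ_three]; field_simp; ring
  have hza : Hom M a fa := ⟨hfa1, cent, hcent, hce⟩
  obtain ⟨e₃, f₃, hf3, g, hg, hge⟩ := exists_hom (M := Subgroup.zpowers r) h2 (Subgroup.mem_zpowers r)
    (hMS hr).2 hr2 hr1
  have htrace1 : ∀ (e f : Fin 3 → F), f ⬝ᵥ e = 1 → ((1 : GL (Fin 3) F) : Matrix (Fin 3) (Fin 3) F) ≠ homMat e f := by
    intro e f hef h
    have := congrArg Matrix.trace h
    rw [Units.val_one, trace_one, homMat, trace_add, trace_neg, trace_one, trace_smul, trace_vecMulVec,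
      dotProduct_comm, hef, Fintype.card_fin] at this
    exact h4 (by simp at this; linear_combination this)
  have hinv : ∀ {x g : GL (Fin 3) F}, x * x = 1 → g ∈ Subgroup.zpowers x → g = 1 ∨ g = x := by
    intro x g hx hg
    obtain ⟨n, rfl⟩ := Subgroup.mem_zpowers_iff.1 hg
    rcases Int.even_or_odd n with ⟨k, rfl⟩ | ⟨k, rfl⟩
    · left; rw [← two_mul, _root_.zpow_mul, _root_.zpow_two, hx, _root_.one_zpow]
    · right; rw [_root_.zpow_add, _root_.zpow_mul, _root_.zpow_two, hx, _root_.one_zpow, one_mul, _root_.zpow_one]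
  have hre : (r : Matrix (Fin 3) (Fin 3) F) = homMat e₃ f₃ := by
    rcases hinv hr2 hg with rfl | rfl
    · exact absurd hge (htrace1 _ _ hf3)
    · exact hge
  have Hr : Hom M e₃ f₃ := ⟨hf3, r, hr, hre⟩
  set ra := (r : Matrix (Fin 3) (Fin 3) F) *ᵥ a with hra
  have hfix : (cent : GL (Fin 3) F).1 *ᵥ ra = ra := by
    rw [hra, mulVec_mulVec, ← Units.val_mul, hcomm, Units.val_mul, ← mulVec_mulVec]
    congr 1
    show (!![-1, 0, 0; 0, 0, -1; 0, -1, 0] : Matrix (Fin 3) (Fin 3) F) *ᵥ a = a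
    funext i; fin_cases i <;> simp [ha, mulVec, dotProduct, Fin.sum_univ_three]
  have hl : ra = ra 1 • a := by
    have e0 := congrFun hfix 0
    have e1 := congrFun hfix 1
    rw [show (cent : GL (Fin 3) F).1 = !![-1, 0, 0; 0, 0, -1; 0, -1, 0] from rfl] at e0 e1
    simp [mulVec, dotProduct, Fin.sum_univ_three] at e0 e1
    funext i
    fin_cases i <;> simp [ha]
    · exact (mul_eq_zero.1 (show (2 : F) * ra 0 = 0 by linear_combination -e0)).resolve_left h2
    · linear_combination -e1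
  have hrr : ra 1 * ra 1 = 1 := by
    have h : (r : Matrix (Fin 3) (Fin 3) F) *ᵥ ra = a := by
      rw [hra, mulVec_mulVec, ← Units.val_mul, hr2, Units.val_one, one_mulVec]
    rw [hl, mulVec_smul, ← hra, hl, smul_smul] at h
    have := congrFun h 1
    simpa [ha] using this
  have hra1 : ra 1 = -1 := by
    rcases mul_self_eq_one_iff.1 hrr with h | h
    · exfalso
      rw [h, one_smul, hra, hre, homMat_mulVec'] at hl
      have hs' : (2 * (f₃ ⬝ᵥ a)) • e₃ = (2 : F) • a := by
        rw [two_smul]; linear_combination (norm := module) hl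
      have he : (f₃ ⬝ᵥ a) • e₃ = a := smul_right_injective _ h2 (by simp only [smul_smul]; exact hs')
      have hs0 : f₃ ⬝ᵥ a ≠ 0 := fun h0 => hza.ne_left (by rw [← he, h0, zero_smul])
      have H' := Hr.smul hs0
      rw [he] at H'
      have hfeq := hza.axis_unique h2 hno H'
      exact hrz (Units.ext (by rw [hre, ← homMat_smul (e := e₃) (f := f₃) hs0, he, ← hfeq, hce]))
    · exact h
  have htr : (r : Matrix (Fin 3) (Fin 3) F).trace = -1 := by
    rw [hre, homMat, trace_add, trace_neg, trace_one, trace_smul, trace_vecMulVec, dotProduct_comm, hf3,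
      Fintype.card_fin]
    simp
    ring
  obtain ⟨A, B, C, hn, hrf⟩ := exists_refl_eq o h2 (congrArg Units.val hcomm |> fun h => by simpa using h)
    (by rw [← Units.val_mul, hr2, Units.val_one]) htr
    (by rw [← hra1, hra]; simp [ha, mulVec, dotProduct, Fin.sum_univ_three]; ring)
  -- the parameters are fixed
  set F₀ : Subfield F := (σ : F →+* F).eqLocusField (RingHom.id F) with hF₀
  have hfix₀ : ∀ x, x ∈ F₀ ↔ σ x = x := fun x => Iff.rfl
  have hw := bar_w o hb hp2
  obtain ⟨hA, hB, hC⟩ : σ A = A ∧ σ B = B ∧ σ C = C := by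
    have herm : ∀ i j, σ ((r : Matrix (Fin 3) (Fin 3) F) j i) = (r : Matrix (Fin 3) (Fin 3) F) i j := by
      intro i j
      have h := mem_GU_iff_forall.1 (hMS hr).1 (Pi.single j 1) ((r : Matrix (Fin 3) (Fin 3) F) *ᵥ Pi.single i 1)
      rw [mulVec_mulVec, ← Units.val_mul, hr2, Units.val_one, one_mulVec, herm_apply hb, herm_apply hb] at h
      fin_cases i <;> fin_cases j <;> simp [mulVec_single_one] at h ⊢ <;> exact h.symm
    have e00 := herm 0 0
    have e01 := herm 0 1
    have e10 := herm 1 0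
    simp [hrf, CfsgLib.SLThree.Hessian.refl, map_div₀, map_ofNat, hw] at e00 e01 e10
    have hcube := o.cube
    have hsum := o.sum
    have d0 : σ A + σ B + σ C = A + B + C := by field_simp at e00; linear_combination -e00
    have d1 : σ A + o.w ^ 2 * σ B + o.w * σ C = A + o.w ^ 2 * B + o.w * C := by
      field_simp at e01; grind
    have d2 : σ A + o.w * σ B + o.w ^ 2 * σ C = A + o.w * B + o.w ^ 2 * C := by
      field_simp at e10; grind
    refine ⟨mul_left_cancel₀ h3 ?_, mul_left_cancel₀ h3 ?_, mul_left_cancel₀ h3 ?_⟩ <;> grind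
  let S : F → F → F → Prop := fun A B C => A ^ 2 + B ^ 2 + C ^ 2 = 3 ∧ MatIn M (CfsgLib.SLThree.Hessian.refl o A B C)
  have hconj : ∀ (g : GL (Fin 3) F), g ∈ M → ∀ X Y : Matrix (Fin 3) (Fin 3) F, g.1 * X = Y * g.1 → MatIn M X →
      MatIn M Y := by
    rintro g hg X Y h ⟨x, hx, rfl⟩
    refine ⟨g * x * g⁻¹, M.mul_mem (M.mul_mem hg hx) (M.inv_mem hg), ?_⟩
    rw [Units.val_mul, Units.val_mul, h, mul_assoc, Units.mul_inv, mul_one]
  haveI : Fintype F₀ := Fintype.ofFinite F₀
  have hcard₀ : Fintype.card F₀ = p := by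
    rw [← Nat.card_eq_fintype_card, ← card_fixedSub hb]
    exact Nat.card_congr (Equiv.subtypeEquivRight fun x => Iff.rfl)
  have c2 : ((2 : F₀) : F) = 2 := map_ofNat F₀.subtype 2
  have c3 : ((3 : F₀) : F) = 3 := map_ofNat F₀.subtype 3
  have c5 : ((5 : F₀) : F) = 5 := map_ofNat F₀.subtype 5
  have c9 : ((9 : F₀) : F) = 9 := map_ofNat F₀.subtype 9
  refine false_of_bad (F := F₀) hcard₀ (by omega) (S := fun A B C => S A B C)
    ⟨⟨A, hA⟩, ⟨B, hB⟩, ⟨C, hC⟩, hn, r, hr, hrf⟩ (fun _ _ _ h => Subtype.ext (by simpa [c3] using h.1)) ?_ ?_ ?_ ?_ ?_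
  · rintro A B C ⟨hn, h⟩
    exact ⟨by push_cast; linear_combination hn, by push_cast; exact hconj _ hfour _ _ (four_refl o h2 _ _ _) h⟩
  · rintro A B C ⟨hn, h⟩
    refine ⟨by push_cast; linear_combination hn, ?_⟩
    push_cast
    refine hconj _ (hq 1) _ _ ?_ h
    have e1 : ((tw o)⁻¹ : GL (Fin 3) F).1 * CfsgLib.SLThree.Hessian.refl o (A : F) B C = CfsgLib.SLThree.Hessian.refl o (B : F) C A * ((tw o)⁻¹ : GL (Fin 3) F).1 := by
      have h' := congrArg (fun X => ((tw o)⁻¹ : GL (Fin 3) F).1 * X * ((tw o)⁻¹ : GL (Fin 3) F).1)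
        (tw_refl o h2 (B : F) C A)
      simp only [mul_assoc, Units.inv_mul_cancel_left, Units.mul_inv, mul_one] at h'
      exact h'.symm
    rw [quat, pow_one, Units.val_mul, Units.val_mul, mul_assoc ((tw o).1 * (four o).1), e1, ← mul_assoc,
      mul_assoc (tw o).1, four_refl o h2, ← mul_assoc, tw_refl o h2]
    simp only [mul_assoc]
  · rintro A B C ⟨hn, x, hx, hxe⟩
    exact ⟨by push_cast; linear_combination hn, cent * x, M.mul_mem hcent hx, by
      rw [Units.val_mul, hxe, cent_refl o h2]; push_cast; rfl⟩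
  · rintro A B C A' B' C' ⟨hn, h⟩ ⟨hn', h'⟩
    refine ⟨?_, ?_⟩
    · push_cast [c2, c3]
      field_simp
      linear_combination 4 * ((A : F) * A' + (B : F) * B' + (C : F) * C') ^ 2 * hn + 9 * hn'
    · push_cast [c2, c3]
      rw [← refl_mul_refl_mul o h2 (A : F) B C A' B' C' hn]
      exact (h.mul h').mul h
  · rintro ⟨A, hA⟩ ⟨B, hB⟩ ⟨C, hC⟩ ⟨hn, x, hx, hxe⟩
    by_contra hbad
    simp only at hn hxe
    obtain ⟨hb1, hb5, hb9⟩ : (A + B + C) ^ 2 ≠ 1 ∧ (A + B + C) ^ 2 ≠ 5 ∧ (A + B + C) ^ 2 ≠ 9 := by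
      simp only [Bad, not_or] at hbad
      refine ⟨fun e => hbad.1 (Subtype.ext ?_), fun e => hbad.2.1 (Subtype.ext ?_), fun e => hbad.2.2 (Subtype.ext ?_)⟩ <;>
        simpa [c5, c9] using e
    have hx2 : x * x = 1 := Units.ext (by
      rw [Units.val_mul, Units.val_one, hxe]
      have := o.cube; have := o.sum
      ext i j; fin_cases i <;> fin_cases j <;> simp [CfsgLib.SLThree.Hessian.refl, Matrix.mul_apply, Fin.sum_univ_three] <;>
        field_simp <;> grind)
    obtain ⟨ex, fx, hfx, gx, hgx, hgxe⟩ := exists_hom (M := Subgroup.zpowers x) h2 (Subgroup.mem_zpowers x)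
      (hMS hx).2 hx2
      (fun h1 => by
        rw [h1, Units.val_one] at hxe
        have h11 := congrFun (congrFun hxe 1) 1
        have h12 := congrFun (congrFun hxe 1) 2
        simp [CfsgLib.SLThree.Hessian.refl] at h11 h12
        exact h2 (by linear_combination h11 - h12))
    have hxh : (x : Matrix (Fin 3) (Fin 3) F) = homMat ex fx := by
      rcases hinv hx2 hgx with rfl | rfl
      · exact absurd hgxe (htrace1 _ _ hfx)
      · exact hgxe
    have hfxa : fx ⬝ᵥ a = 0 := by
      have hxa : (x : Matrix (Fin 3) (Fin 3) F) *ᵥ a = -a := by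
        rw [hxe]; funext i; fin_cases i <;> simp [CfsgLib.SLThree.Hessian.refl, ha, mulVec, dotProduct, Fin.sum_univ_three] <;> field_simp <;> ring
      rw [hxh, homMat_mulVec'] at hxa
      have : (2 * (fx ⬝ᵥ a)) • ex = 0 := by linear_combination (norm := module) hxa
      exact (mul_eq_zero.1 ((smul_eq_zero.1 this).resolve_right fun e => by simp [e] at hfx)).resolve_left h2
    set a' : Fin 3 → F := ![0, o.w, -o.w ^ 2] with ha'
    set fa' : Fin 3 → F := ![0, o.w ^ 2 * 2⁻¹, -o.w * 2⁻¹] with hfa'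
    have hcz : (clock o * cent * (clock o)⁻¹ : GL (Fin 3) F).1 = homMat a' fa' := by
      have hcube := o.cube
      rw [Units.val_mul, Units.val_mul]
      show !![1, 0, 0; 0, o.w, 0; 0, 0, o.w ^ 2] * (!![-1, 0, 0; 0, 0, -1; 0, -1, 0] : Matrix (Fin 3) (Fin 3) F) *
        !![1, 0, 0; 0, o.w ^ 2, 0; 0, 0, o.w] = _
      ext i j; fin_cases i <;> fin_cases j <;>
        simp [homMat, ha', hfa', vecMulVec_apply, Matrix.mul_apply, Fin.sum_univ_three] <;> field_simp <;> grind
    have hfa'1 : fa' ⬝ᵥ a' = 1 := by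
      have := o.cube
      simp [ha', hfa', dotProduct, Fin.sum_univ_three]; field_simp; grind
    have hcM := M.mul_mem (M.mul_mem hclock hcent) (M.inv_mem hclock)
    have htrace := trace_conj_cent_refl o h2 A B C
    rw [hcz, ← hxe, hxh] at htrace
    set c := (fa' ⬝ᵥ ex) * (fx ⬝ᵥ a') with hc
    have hprod : (homMat a' fa' * homMat ex fx).trace = 4 * c - 1 := by
      simp only [homMat, add_mul, mul_add, neg_mul, mul_neg, one_mul, mul_one, neg_neg, smul_mul_assoc, mul_smul_comm,
        vecMulVec_mul_vecMulVec, trace_add, trace_neg, trace_one, trace_smul, trace_vecMulVec, smul_eq_mul,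
        vecMulVec_smul, dotProduct_smul, Fintype.card_fin]
      rw [dotProduct_comm a' fa', dotProduct_comm ex fx, hfa'1, hfx, dotProduct_comm a' fx, hc]
      push_cast
      ring
    rw [hprod] at htrace
    have hcv : 8 * c = 3 + (A + B + C) := by
      field_simp at htrace
      linear_combination htrace
    -- in terms of the Hermitian form
    obtain ⟨-, hpa'⟩ := hom_polar hf h2 hfa'1 (hMS hcM).1 hcz
    obtain ⟨hxx0, hpx⟩ := hom_polar hf h2 hfx (hMS hx).1 hxh
    obtain ⟨-, hpa⟩ := hom_polar hf h2 hfa1 (hMS hcent).1 hce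
    have haa : Cfsg.hermForm 3 F p a a = 2 := by simp [herm_apply hb, ha]; norm_num
    have ha'a' : Cfsg.hermForm 3 F p a' a' = 2 := by
      simp [herm_apply hb, ha', hw]; linear_combination (o.w ^ 3 + 2) * o.cube
    have haa' : Cfsg.hermForm 3 F p a a' = -1 := by
      simp [herm_apply hb, ha, ha', hw]; linear_combination o.sum + o.w * o.cube
    obtain ⟨z, hz⟩ : ∃ z, z = Cfsg.hermForm 3 F p a' ex := ⟨_, rfl⟩
    have hzx : Cfsg.hermForm 3 F p ex a' = σ z := by rw [hz, hf.herm]
    have hc' : c = σ z / 2 * (z / Cfsg.hermForm 3 F p ex ex) := by rw [hc, hpa', hpx, ha'a', hzx, ← hz]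
    have hc0 : c ≠ 0 := fun e => hb9 (by rw [e, mul_zero] at hcv; linear_combination (-(A + B + C) + 3) * hcv)
    have hz0 : z ≠ 0 := fun e => hc0 (by rw [hc', e]; simp)
    have hσz : σ z ≠ 0 := (map_ne_zero σ).2 hz0
    refine false_of_triangle o hb hf hp h11 hp2 hMS hno hheis hsmall (e := ![a, a', z • ex])
      (g := ![cent, clock o * cent * (clock o)⁻¹, x]) (u := z * σ z)
      (m := z * σ z * Cfsg.hermForm 3 F p ex ex) (c := c)
      (fun i => by fin_cases i <;> simp [hcent, hcM, hx]) (fun i v => ?_) haa ha'a' ?_ haa' ?_ ?_ ?_ ?_ ?_ ?_ ?_ ?_ ?_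
    · fin_cases i
      · show (cent : GL (Fin 3) F).1 *ᵥ v = -v + (2 * Cfsg.hermForm 3 F p v a / Cfsg.hermForm 3 F p a a) • a
        rw [hce, homMat_mulVec', hpa, mul_div_assoc]
      · show (clock o * cent * (clock o)⁻¹ : GL (Fin 3) F).1 *ᵥ v =
          -v + (2 * Cfsg.hermForm 3 F p v a' / Cfsg.hermForm 3 F p a' a') • a'
        rw [hcz, homMat_mulVec', hpa', mul_div_assoc]
      · show (x : Matrix (Fin 3) (Fin 3) F) *ᵥ v =
          -v + (2 * Cfsg.hermForm 3 F p v (z • ex) / Cfsg.hermForm 3 F p (z • ex) (z • ex)) • (z • ex)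
        rw [hxh, homMat_mulVec', hpx, hs.smul_right, hs.smul_left, hs.smul_right, smul_smul]
        congr 2
        field_simp
    · show Cfsg.hermForm 3 F p (z • ex) (z • ex) = _
      rw [hs.smul_left, hs.smul_right]; ring
    · show Cfsg.hermForm 3 F p a (z • ex) = 0
      rw [hs.smul_right]
      have h : fx ⬝ᵥ a = Cfsg.hermForm 3 F p a ex / Cfsg.hermForm 3 F p ex ex := hpx a
      rw [hfxa, eq_comm, div_eq_zero_iff] at h
      rw [h.resolve_right hxx0, mul_zero]
    · show Cfsg.hermForm 3 F p a' (z • ex) = _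
      rw [hs.smul_right, ← hz]; ring
    · rw [map_mul, hb.involutive]; ring
    · exact mul_ne_zero hz0 hσz
    · rw [hc']; field_simp
    · exact fun h => hb9 (by linear_combination ((A + B + C) + 3) * (2 * h - hcv))
    · exact fun h => hb1 (by linear_combination ((A + B + C) - 1) * (2 * h - hcv))
    · exact fun h => hb1 (by linear_combination ((A + B + C) + 1) * (2 * h - hcv))
    · exact fun h => hb5 (by linear_combination 4 * h + (-(8 * c) + 4 - (A + B + C + 3) + 2) * hcv)

end CfsgLib.SUThree.Hessian
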